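import Cfsg.Agent.Lib.ChevSubfield.Checks
import Cfsg.Agent.Lib.Twisted.GraphAut

/-!
Decidable facts about a symmetry of the diagram for the maximality of the untwisted part of a twisted group.
-/

set_option autoImplicit false

namespace Cfsg.Agent.Lib.ChevTwistMax

open Cfsg.Lie Cfsg.Agent.Lib.Chev Cfsg.Agent.Lib.Twisted

/-- The tables. -/
structure TwTable where
  /-- the orbits on the positive roots -/
  orbs : List (List ℕ)
  /-- the highest orbit of more than one root -/
  star : List ℕ
  /-- a root, an orbit and the sum seeing the root -/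
  vis : List (ℕ × List ℕ × ℕ)
  /-- rational signs along the orbits -/
  unit : List ℤ
  /-- words taking `star` to the orbits of fundamental roots with more than one member -/
  words : List (List ℕ × List ℕ)

variable (D : ChevalleyDatum) (C : Cert) (P : GraphData) (Tb : TwTable)

/-- The sign of a root in the rational orbit elements. -/
def TwTable.e (r : ℕ) : ℤ := Tb.unit.getD (r - D.nroots / 2) 1

/-- The coefficient of the target `c` in the commutator of the roots `r` and `s`. -/
def cCoef (c r s : ℕ) : ℤ :=
  if r = s then 0 else (((cTerms C r s).filter fun d => Nat.beq d.1 c).map fun d => d.2.1).sum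

/-- The coefficient against an orbit with its signs. -/
def bCoef (o : List ℕ) (c r : ℕ) : ℤ := (o.map fun s => cCoef C c r s * Tb.e D s).sum

/-- The positive orbits: a partition into commuting roots of one height, stable with good signs. -/
def chkOrbs : Bool :=
  (allN D.nroots fun r => decide (htB D C (P.root r) = htB D C r)) &&
  Nat.beq (P.root (ChevSubfield.top D)) (ChevSubfield.top D) &&
  (allN (D.nroots / 2) fun j =>
    let r := D.nroots / 2 + j
    (!Nat.beq (P.root r) r || decide (P.sign r = 1)) &&
      decide (Tb.e D r = 1 ∨ Tb.e D r = -1) && decide (Tb.e D (P.root r) = P.sign r * Tb.e D r) &&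
      Tb.orbs.flatten.contains r) &&
  decide Tb.orbs.flatten.Nodup &&
  Tb.orbs.all fun o => !o.isEmpty && (o.all fun r => Nat.ble (D.nroots / 2) r && Nat.blt r D.nroots &&
    decide (htB D C r = htB D C (o.headD 0))) &&
    decide ((o.map P.root).Perm o) &&
    (o.all fun r => o.all fun s => Nat.beq r s || ((cTerms C r s).isEmpty && (cTerms C s r).isEmpty))

/-- Above the highest larger orbit all roots are fixed; the others are seen. -/
def chkVis : Bool :=
  Tb.orbs.contains Tb.star &&
  (allN (D.nroots / 2) fun j =>
    let r := D.nroots / 2 + j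
    Nat.beq (P.root r) r || Tb.star.contains r ||
      (decide (htB D C r ≤ htB D C (Tb.star.headD 0)) &&
        Tb.vis.any fun v => Nat.beq r v.1 || Nat.beq r (P.root v.1) || Nat.beq r (P.root (P.root v.1)))) &&
  Tb.vis.all fun v =>
    let r₀ := v.1
    let r₁ := P.root (P.root r₀)
    Tb.orbs.contains v.2.1 && Nat.ble (D.nroots / 2) r₀ && Nat.blt r₀ D.nroots &&
      Nat.ble (D.nroots / 2) v.2.2 && Nat.blt v.2.2 D.nroots &&
      decide (htB D C v.2.2 = htB D C r₀ + htB D C (v.2.1.headD 0)) &&
      decide (bCoef D C Tb v.2.1 v.2.2 r₀ = 1 ∨ bCoef D C Tb v.2.1 v.2.2 r₀ = -1) &&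
      (allN (D.nroots / 2) fun j =>
        let r := D.nroots / 2 + j
        Nat.beq r r₀ || !decide (htB D C r = htB D C r₀) || decide (bCoef D C Tb v.2.1 v.2.2 r = 0) ||
          (Nat.beq r r₁ && Nat.beq (P.root r) r₀ && decide (P.sign r * (P.sign r₀ * P.sign (P.root r₀)) = 1) &&
            decide (bCoef D C Tb v.2.1 v.2.2 r * (P.sign r₀ * P.sign (P.root r₀)) = bCoef D C Tb v.2.1 v.2.2 r₀)))

/-- The words for the orbits of fundamental roots with more than one member. -/
def chkWords : Bool :=
  Tb.words.all fun w =>
    (w.1.all fun i => Nat.blt i D.rank) && (w.2.all fun i => Nat.blt i D.rank) &&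
      decide ((Tb.star.map (perm C w.1)).Perm (w.2.map D.simple))

/-- The pairing with the highest root is stable. -/
def chkNode : Bool :=
  allN D.nroots fun r => decide (D.pairing (ChevSubfield.top D) (P.root r) =
    D.pairing (ChevSubfield.top D) r)

end Cfsg.Agent.Lib.ChevTwistMax
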