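import Cfsg.Agent.Lib.ChevSubfield.Coord

/-!
Bilinear coordinates of commutators and products over lists of roots in the height layers.
-/

set_option autoImplicit false

namespace Cfsg.Agent.Lib.ChevTwistMax

open Cfsg.Lie Cfsg.Agent.Lib.Chev Cfsg.Agent.Lib.ChevSubfield

variable {D : ChevalleyDatum} {C : Cert} {F : Type*} [Field F]

/-- The root element at any index. -/
def xT (hh : Rooted D C) (r : ℕ) (t : F) : GL D.Idx F :=
  if hr : r < D.nroots then xGL hh.toChecked F hr t else 1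

/-- The coordinate at any index. -/
noncomputable def cT (hh : Rooted D C) (r : ℕ) (g : GL D.Idx F) : F :=
  if hr : r < D.nroots then crd hh hr g else 0

/-- The product of root elements along a list. -/
def oElt (hh : Rooted D C) (o : List ℕ) (v : ℕ → F) : GL D.Idx F := (o.map fun r => xT hh r (v r)).prod

/-- The positive roots of one height. -/
noncomputable def layerSet (D : ChevalleyDatum) (C : Cert) (k : ℤ) : Finset ℕ :=
  (Finset.range D.nroots).filter fun r => D.nroots / 2 ≤ r ∧ ht D C r = k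

theorem mem_layerSet {k : ℤ} {r : ℕ} : r ∈ layerSet D C k ↔ r ∈ posSet D ∧ ht D C r = k := by
  simp only [layerSet, Finset.mem_filter, Finset.mem_range, posSet, Set.mem_setOf_eq]
  tauto

theorem htB_eq (s : ℕ) : htB D C s = ht D C s := by rw [htB, zsum_eq]; rfl

section

variable (hh : Rooted D C)
include hh

theorem xT_eq {r : ℕ} (hr : r < D.nroots) (t : F) : xT hh r t = xGL hh.toChecked F hr t := dif_pos hr

theorem cT_eq {r : ℕ} (hr : r < D.nroots) (g : GL D.Idx F) : cT hh r g = crd hh hr g := dif_pos hr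

theorem oElt_cons (r : ℕ) (o : List ℕ) (v : ℕ → F) : oElt hh (r :: o) v = xT hh r (v r) * oElt hh o v := by
  simp [oElt]

theorem oElt_nil (v : ℕ → F) : oElt hh [] v = 1 := by simp [oElt]

theorem oElt_append (o o' : List ℕ) (v : ℕ → F) : oElt hh (o ++ o') v = oElt hh o v * oElt hh o' v := by
  simp [oElt]

theorem oElt_congr {o : List ℕ} {v w : ℕ → F} (e : ∀ r ∈ o, v r = w r) : oElt hh o v = oElt hh o w := by
  rw [oElt, oElt, List.map_congr_left fun r hr => by rw [e r hr]]

theorem oElt_mem_rootGen {S : Set ℕ} : ∀ {o : List ℕ}, (∀ r ∈ o, r ∈ S ∧ r < D.nroots) → ∀ v : ℕ → F,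
    oElt hh o v ∈ rootGen D F S
  | [], _, v => by rw [oElt_nil]; exact one_mem _
  | r :: o, h, v => by
    rw [oElt_cons, xT_eq hh (h r List.mem_cons_self).2]
    exact mul_mem (mem_rootGen (h r List.mem_cons_self).1 (coe_xGL _ _ _))
      (oElt_mem_rootGen (fun a ha => h a (List.mem_cons_of_mem _ ha)) v)

theorem oElt_mem {M : Subgroup (GL D.Idx F)} : ∀ {o : List ℕ} {v : ℕ → F},
    (∀ r ∈ o, xT hh r (v r) ∈ M) → oElt hh o v ∈ M :=
  fun {o v} h => Subgroup.list_prod_mem _ fun x hx => by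
    obtain ⟨r, hr, rfl⟩ := List.mem_map.1 hx
    exact h r hr

theorem crd_oElt {k : ℤ} (hk : 1 ≤ k) {r : ℕ} (hr : r ∈ posSet D) (hrk : ht D C r = k) :
    ∀ {o : List ℕ}, (∀ s ∈ o, s ∈ htSet D C k) → o.Nodup → ∀ v : ℕ → F,
      crd hh hr.2 (oElt hh o v) = if r ∈ o then v r else 0
  | [], _, _, v => by simp [oElt_nil, crd_one hh hr.2]
  | s :: o, ho, hnd, v => by
    have hs := ho s List.mem_cons_self
    rw [oElt_cons, xT_eq hh hs.1.2, crd_mul hh (k := k) (by omega) hr.2 (by omega) (mem_rootGen hs (coe_xGL _ _ _))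
      (oElt_mem_rootGen hh (fun a ha => ⟨ho a (List.mem_cons_of_mem _ ha),
        (ho a (List.mem_cons_of_mem _ ha)).1.2⟩) v),
      crd_x hh hr.2 hr hs.1 (le_trans hrk.le hs.2),
      crd_oElt hk hr hrk (fun a ha => ho a (List.mem_cons_of_mem _ ha)) (List.nodup_cons.1 hnd).2 v]
    by_cases e : s = r
    · subst e
      simp [(List.nodup_cons.1 hnd).1]
    · simp [e, Ne.symm e]

theorem dEnt_comm_mul_right {k l : ℤ} (hk : 1 ≤ k) (hl : 1 ≤ l) {g x x' : GL D.Idx F}
    (hg : g ∈ rootGen D F (htSet D C k)) (hx : x ∈ rootGen D F (htSet D C l))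
    (hx' : x' ∈ rootGen D F (htSet D C l)) {a b : D.Idx} (hab : hlev D C a < hlev D C b + (k + l) + 1) :
    dEnt (g * (x * x') * g⁻¹ * (x * x')⁻¹) a b =
      dEnt (g * x * g⁻¹ * x⁻¹) a b + dEnt (g * x' * g⁻¹ * x'⁻¹) a b := by
  have h := hh.toChecked
  rw [(dEnt_comm h hk hl hg (mul_mem hx hx')).2 a b hab, (dEnt_comm h hk hl hg hx).2 a b hab,
    (dEnt_comm h hk hl hg hx').2 a b hab, ← Finset.sum_add_distrib]
  refine Finset.sum_congr rfl fun z _ => ?_
  have g1 := (raises_htGen h (by omega) hg).1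
  have x1 := (raises_htGen h (by omega) hx).1
  have x1' := (raises_htGen h (by omega) hx').1
  have e1 : dEnt g a z * dEnt (x * x') z b = dEnt g a z * (dEnt x z b + dEnt x' z b) := by
    by_cases hz : dEnt g a z = 0
    · rw [hz, zero_mul, zero_mul]
    · have := g1 a z hz
      rw [dEnt_mul h x1 x1' (by omega)]
  have e2 : dEnt (x * x') a z * dEnt g z b = (dEnt x a z + dEnt x' a z) * dEnt g z b := by
    by_cases hz : dEnt g z b = 0
    · rw [hz, mul_zero, mul_zero]
    · have := g1 z b hz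
      rw [dEnt_mul h x1 x1' (by omega)]
  rw [e1, e2]
  ring

/-- The coefficient sum against the coordinates of a layer. -/
theorem crd_comm_gen {k : ℤ} (hk : 1 ≤ k) {s : ℕ} (hs : s ∈ posSet D) {c : ℕ} (hc : c ∈ posSet D)
    (hck : ht D C c = k + ht D C s) {coef : ℕ → ℤ}
    (hcoef : ∀ r, coef r = if r = s then 0 else
      (((cTerms C r s).filter fun d => Nat.beq d.1 c).map fun d => d.2.1).sum)
    {g : GL D.Idx F} (hg : g ∈ rootGen D F (htSet D C k)) (a : F) :
    crd hh hc.2 (g * xGL hh.toChecked F hs.2 a * g⁻¹ * (xGL hh.toChecked F hs.2 a)⁻¹) =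
      ∑ r ∈ layerSet D C k, (coef r : F) * cT hh r g * a := by
  classical
  have h := hh.toChecked
  have hl : (1 : ℤ) ≤ ht D C s := h.ht_pos hs.2 hs.1
  set l := ht D C s with hldef
  set X := xGL hh.toChecked F hs.2 a with hX
  have hXmem : X ∈ rootGen D F (htSet D C l) := mem_rootGen ⟨hs, le_rfl⟩ (coe_xGL _ _ _)
  have hlev' : ∀ i : Fin D.rank, hlev D C (Sum.inl i) <
      hlev D C (Sum.inr ⟨ng D c, Checked.ng_lt hc.2⟩) + (k + l) + 1 := fun i => by
    rw [hlev_crd hh hc.2 i, hck]; omega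
  induction hg using Subgroup.closure_induction with
  | mem g hgm =>
    obtain ⟨r', t, hr', e⟩ := hgm
    have eg : g = xGL hh.toChecked F hr'.1.2 t := Units.ext e
    subst eg
    have hsum : ∑ r ∈ layerSet D C k, (coef r : F) * cT hh r (xGL hh.toChecked F hr'.1.2 t) * a =
        if ht D C r' = k then (coef r' : F) * t * a else 0 := by
      rw [Finset.sum_congr rfl (g := fun r => if r' = r then (coef r : F) * t * a else 0) fun r hr => ?_]
      · rw [Finset.sum_ite_eq]
        by_cases e : ht D C r' = k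
        · rw [if_pos (mem_layerSet.2 ⟨hr'.1, e⟩), if_pos e]
        · rw [if_neg (fun hm => e (mem_layerSet.1 hm).2), if_neg e]
      · obtain ⟨hrp, hrk⟩ := mem_layerSet.1 hr
        rw [cT_eq hh hrp.2, crd_x hh hrp.2 hrp hr'.1 (hrk.le.trans hr'.2)]
        by_cases e : r' = r <;> simp [e]
    rw [hsum]
    by_cases hsr : s = r'
    · subst hsr
      have : xGL hh.toChecked F hr'.1.2 t * X * (xGL hh.toChecked F hr'.1.2 t)⁻¹ * X⁻¹ = 1 := by
        rw [hX, h.xGL_add, add_comm, ← h.xGL_add, mul_assoc _ (xGL hh.toChecked F hr'.1.2 t), mul_inv_cancel,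
          mul_one, mul_inv_cancel]
      rw [this, crd_one hh hc.2, hcoef, if_pos rfl]
      simp
    have hng : s ≠ ng D r' := Checked.ne_ng_of_pos hr'.1 hs h.two_mul_half
    have hspec : ∀ d ∈ cTerms C r' s, d.1 ∈ htSet D C (k + l) ∧ (d.1 = c →
        ht D C r' = k ∧ d.2.2.1 = 1 ∧ d.2.2.2 = 1) := by
      intro d hd
      obtain ⟨-, hi, hj, hφd⟩ := h.cTerms_spec hr'.1.2 hs.2 d hd
      have h1 : (1 : ℤ) ≤ d.2.2.1 := by exact_mod_cast hi
      have h2 : (1 : ℤ) ≤ d.2.2.2 := by exact_mod_cast hj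
      have h3 := hr'.2
      refine ⟨⟨(h.cTerms_pos hr'.1 hs hd).1, by rw [hφd _ h.isAdd_ht]; nlinarith⟩, fun hdc => ?_⟩
      have e1 := hφd _ h.isAdd_ht
      rw [hdc, hck] at e1
      have hi' : (d.2.2.1 : ℤ) = 1 := by nlinarith
      have hj' : (d.2.2.2 : ℤ) = 1 := by nlinarith
      refine ⟨?_, by exact_mod_cast hi', by exact_mod_cast hj'⟩
      rw [hi', hj', one_mul, one_mul] at e1
      omega
    obtain ⟨W, hW, eW⟩ := h.exists_wordGL (F := F) (htSet_lt (k + l)) (D.commWord F r' s t a) (by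
      intro p hp
      rw [h.commWord_eq hr'.1.2 hs.2] at hp
      obtain ⟨d, hd, rfl⟩ := List.mem_map.1 hp
      exact (hspec d hd).1)
    have eform : X * xGL hh.toChecked F hr'.1.2 t = xGL hh.toChecked F hr'.1.2 t * X * W := Units.ext (by
      simp only [Units.val_mul, hX, coe_xGL, eW]
      exact h.commutator_formula hr'.1.2 hs.2 hsr hng t a)
    have e1 : xGL hh.toChecked F hr'.1.2 t * X * (xGL hh.toChecked F hr'.1.2 t)⁻¹ * X⁻¹ =
        (xGL hh.toChecked F hr'.1.2 t * X) * W⁻¹ * (xGL hh.toChecked F hr'.1.2 t * X)⁻¹ := by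
      have : W⁻¹ = (xGL hh.toChecked F hr'.1.2 t)⁻¹ * X⁻¹ * (xGL hh.toChecked F hr'.1.2 t * X) := by
        rw [show W = (xGL hh.toChecked F hr'.1.2 t * X)⁻¹ * (X * xGL hh.toChecked F hr'.1.2 t) by
          rw [eform]; group]
        group
      rw [this]
      group
    have hmem1 : xGL hh.toChecked F hr'.1.2 t * X ∈ D.posUnipotent F := by
      rw [h.posUnipotent_eq]
      exact mul_mem (mem_rootGen hr'.1 (coe_xGL _ _ _)) (mem_rootGen hs (coe_xGL _ _ _))
    rw [e1, crd_conj hh (k := k + l) (by omega) hc.2 hck.le hmem1 (inv_mem hW),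
      crd_inv hh (k := k + l) (by omega) hc.2 (by rw [hck]; omega) hW,
      crd_word hh (k := k + l) (by omega) hc.2 hc hck.le (by rw [hck]; omega) _ (fun p hp => by
        rw [h.commWord_eq hr'.1.2 hs.2] at hp
        obtain ⟨d, hd, rfl⟩ := List.mem_map.1 hp
        exact (hspec d hd).1) W eW,
      h.commWord_eq hr'.1.2 hs.2, List.filter_map, List.map_map]
    simp only [Function.comp_def]
    by_cases e2 : ht D C r' = k
    · rw [if_pos e2, hcoef, if_neg (Ne.symm hsr)]
      have hall : ∀ L : List (ℕ × ℤ × ℕ × ℕ), (∀ d ∈ L, d.2.2.1 = 1 ∧ d.2.2.2 = 1) →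
          -((L.map fun d => (d.2.1 : F) * (-t) ^ d.2.2.1 * a ^ d.2.2.2).sum) =
            (((L.map fun d => d.2.1).sum : ℤ) : F) * t * a := by
        intro L hL
        induction L with
        | nil => simp
        | cons d L ih =>
          have := ih fun e he => hL e (List.mem_cons_of_mem _ he)
          obtain ⟨hi, hj⟩ := hL d List.mem_cons_self
          simp only [List.map_cons, List.sum_cons, hi, hj, Int.cast_add, pow_one]
          linear_combination this
      exact hall _ fun d hd => ((hspec d (List.mem_filter.1 hd).1).2 (natBeq_iff.1 (List.mem_filter.1 hd).2)).2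
    · rw [if_neg e2]
      have : ((cTerms C r' s).filter fun d => Nat.beq d.1 c) = [] := by
        rw [List.filter_eq_nil_iff]
        intro d hd hb
        exact e2 ((hspec d hd).2 (natBeq_iff.1 hb)).1
      rw [this]
      simp
  | one =>
    rw [one_mul, inv_one, mul_one, mul_inv_cancel, crd_one hh hc.2]
    refine (Finset.sum_eq_zero fun r hr => ?_).symm
    rw [cT_eq hh (mem_layerSet.1 hr).1.2, crd_one hh, mul_zero, zero_mul]
  | mul x y hx hy ihx ihy =>
    have e : ∀ r ∈ layerSet D C k, (coef r : F) * cT hh r (x * y) * a =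
        (coef r : F) * cT hh r x * a + (coef r : F) * cT hh r y * a := fun r hr => by
      obtain ⟨hrp, hrk⟩ := mem_layerSet.1 hr
      rw [cT_eq hh hrp.2, cT_eq hh hrp.2, cT_eq hh hrp.2, crd_mul hh (k := k) (by omega) hrp.2 (by omega) hx hy]
      ring
    rw [Finset.sum_congr rfl e, Finset.sum_add_distrib, ← ihx, ← ihy]
    simp only [crd]
    rw [dEnt_comm_mul h hk hl hx hy hXmem (hlev' _), add_div]
  | inv x hx ihx =>
    have e : ∀ r ∈ layerSet D C k, (coef r : F) * cT hh r x⁻¹ * a = -((coef r : F) * cT hh r x * a) := fun r hr => by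
      obtain ⟨hrp, hrk⟩ := mem_layerSet.1 hr
      rw [cT_eq hh hrp.2, cT_eq hh hrp.2, crd_inv hh (k := k) (by omega) hrp.2 (by omega) hx]
      ring
    rw [Finset.sum_congr rfl e, Finset.sum_neg_distrib, ← ihx]
    have := dEnt_comm_mul h hk hl hx (inv_mem hx) hXmem (hlev' ⟨_, (exists_cor_ne (F := F) hh hc.2).choose_spec.1⟩)
    rw [mul_inv_cancel, one_mul, inv_one, mul_one, mul_inv_cancel] at this
    simp only [crd]
    have h0 : dEnt (1 : GL D.Idx F) (Sum.inl ⟨_, (exists_cor_ne (F := F) hh hc.2).choose_spec.1⟩)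
        (Sum.inr ⟨ng D c, Checked.ng_lt hc.2⟩) = 0 := by simp [dEnt]
    rw [h0] at this
    rw [← neg_div]
    congr 1
    linear_combination -this

/-- The coordinate of a commutator with a product along a list of one height. -/
theorem crd_comm_oElt {k l : ℤ} (hk : 1 ≤ k) (hl : 1 ≤ l) {c : ℕ} (hc : c ∈ posSet D)
    (hck : ht D C c = k + l) {g : GL D.Idx F} (hg : g ∈ rootGen D F (htSet D C k)) (v : ℕ → F) :
    ∀ {o : List ℕ}, (∀ s ∈ o, s ∈ posSet D ∧ ht D C s = l) →
      crd hh hc.2 (g * oElt hh o v * g⁻¹ * (oElt hh o v)⁻¹) =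
        ∑ r ∈ layerSet D C k, ((o.map fun s => (if r = s then 0 else
          (((cTerms C r s).filter fun d => Nat.beq d.1 c).map fun d => d.2.1).sum : ℤ)).zip o
            |>.map fun q => (q.1 : F) * v q.2).sum * cT hh r g
  | [], _ => by simp [oElt_nil, crd_one hh hc.2]
  | s :: o, ho => by
    obtain ⟨hs, hsl⟩ := ho s List.mem_cons_self
    have ho' : ∀ a ∈ o, a ∈ htSet D C l ∧ a < D.nroots := fun a ha =>
      ⟨⟨(ho a (List.mem_cons_of_mem _ ha)).1, (ho a (List.mem_cons_of_mem _ ha)).2.ge⟩,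
        (ho a (List.mem_cons_of_mem _ ha)).1.2⟩
    rw [oElt_cons, xT_eq hh hs.2]
    simp only [List.map_cons, List.zip_cons_cons, List.sum_cons, add_mul]
    rw [Finset.sum_add_distrib, ← crd_comm_oElt hk hl hc hck hg v fun a ha => ho a (List.mem_cons_of_mem _ ha)]
    have e := crd_comm_gen hh hk hs hc (by rw [hck, hsl]) (coef := fun r => if r = s then 0 else
      (((cTerms C r s).filter fun d => Nat.beq d.1 c).map fun d => d.2.1).sum) (fun r => rfl) hg (v s)
    rw [show ∑ r ∈ layerSet D C k, ((if r = s then 0 else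
        (((cTerms C r s).filter fun d => Nat.beq d.1 c).map fun d => d.2.1).sum : ℤ) : F) * v s * cT hh r g =
      crd hh hc.2 (g * xGL hh.toChecked F hs.2 (v s) * g⁻¹ * (xGL hh.toChecked F hs.2 (v s))⁻¹) by
        rw [e]; exact Finset.sum_congr rfl fun r _ => by ring]
    simp only [crd]
    rw [dEnt_comm_mul_right hh hk hl hg (mem_rootGen ⟨hs, hsl.ge⟩ (coe_xGL _ _ _))
      (oElt_mem_rootGen hh ho' v) (by rw [hlev_crd hh hc.2, hck]; omega), add_div]

end

end Cfsg.Agent.Lib.ChevTwistMax
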