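import Cfsg.Agent.Lib.ChevTwistMax.Star
import Cfsg.Agent.Lib.ChevSubfield.Odd

/-!
Maximality of the untwisted part of a twisted group.
-/

set_option autoImplicit false

namespace Cfsg.Agent.Lib.ChevTwistMax

open Cfsg.Lie Cfsg.Agent.Lib.Chev Cfsg.Agent.Lib.ChevSubfield Cfsg.Agent.Lib.ChevField Cfsg.Agent.Lib.Twisted
open Cfsg.Agent.Lib.Twisted.Core
open scoped Matrix

/-- The orbits have at most three members. -/
def chkSmall (P : GraphData) (Tb : TwTable) : Bool :=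
  Tb.orbs.all fun o => o.all fun a => o.all fun b =>
    Nat.beq b a || Nat.beq b (P.root a) || Nat.beq b (P.root (P.root a))

/-- A fixed fundamental root one step below the highest root. -/
def chkFixLine (D : ChevalleyDatum) (C : Cert) (P : GraphData) (i : ℕ) : Bool :=
  chkLineOne D C i && Nat.beq (P.root (D.simple i)) (D.simple i) &&
    decide (htB D C (ChevSubfield.top D) = htB D C (refl C i (ChevSubfield.top D)) + 1)

/-- The entry of a unipotent element next to the corner is a multiple of a coordinate. -/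
theorem entry_crd {D : ChevalleyDatum} {C : Cert} {K : Type*} [Field K] (X : Ctx D C K) {i : ℕ}
    (hi : chkLineOne D C i = true) (hht : ht D C (top D) = ht D C (refl C i (top D)) + 1) :
    ∃ hir : i < D.rank, ∃ ε : K, (ε = 1 ∨ ε = -1) ∧ ∀ u ∈ D.posUnipotent K,
      (u : Matrix D.Idx D.Idx K) (Sum.inr ⟨top D, X.top_lt⟩)
          (Sum.inr ⟨refl C i (top D), X.hh.toChecked.refl_lt hir X.top_lt⟩) =
        ε * crd X.hh (X.hh.toChecked.simple_lt hir) u := by
  have hc := X.hh.toChecked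
  simp only [chkLineOne, Bool.and_eq_true, Nat.blt_eq, Bool.not_eq_true', Bool.eq_false_iff, ne_eq, natBeq_iff] at hi
  obtain ⟨⟨⟨hir, hs1⟩, hs2⟩, hcE⟩ := hi
  refine ⟨hir, ?_⟩
  set s := refl C i (top D)
  have hslt : s < D.nroots := hc.refl_lt hir X.top_lt
  obtain ⟨e, he⟩ : ∃ e, cE C (D.simple i) s = [e] := by
    rcases hl : cE C (D.simple i) s with _ | ⟨e, _ | ⟨_, _⟩⟩ <;> simp [hl] at hcE
    exact ⟨e, rfl⟩
  rw [he] at hcE
  simp only [Bool.and_eq_true, natBeq_iff, decide_eq_true_eq] at hcE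
  obtain ⟨he1, he2⟩ := hcE
  set A : D.Idx := Sum.inr ⟨top D, X.top_lt⟩
  set S' : D.Idx := Sum.inr ⟨s, hslt⟩
  set ε : K := (e.2 : K)
  have hε : ε = 1 ∨ ε = -1 := by rcases he2 with e' | e' <;> simp [ε, e']
  have hAS : A ≠ S' := by
    intro h'
    have := Fin.ext_iff.1 (Sum.inr_injective h')
    simp only at this
    rw [← this] at hht
    omega
  have hip : D.simple i ∈ posSet D := ⟨hc.sroot_pos hir, hc.simple_lt hir⟩
  have hi1 : ht D C (D.simple i) = 1 := hc.simple_ht hir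
  -- the root element of the fundamental root
  have hx : ∀ t : K, (xGL hc K (hc.simple_lt hir) t : Matrix D.Idx D.Idx K) A S' = ε * t := by
    intro t
    have e2 : (xGL hc K (hc.simple_lt hir) t : Matrix D.Idx D.Idx K) A S' = (D.x K (D.simple i) t *ᵥ bv D K s) A :=
      (congrFun (mulVec_bv _ S') A).symm
    rw [e2, hc.x_mulVec_bv (hc.simple_lt hir) (by omega)]
    simp only [Finset.sum_range_succ, Finset.sum_range_zero, zero_add, hc.eCol_gen hslt hs1 hs2, he,
      List.getElem?_cons_zero, List.getElem?_cons_succ, List.getElem?_nil, Option.toList_some, Option.toList_none,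
      evalC_singleton, evalC_nil, smul_zero, add_zero, pow_zero, one_smul, pow_one,
      show eCol D C (D.simple i) s 0 = [(s, 1)] from rfl, Int.cast_one, he1]
    have es : bv D K s A = 0 := by
      simp only [bv, A, idxCode]
      exact if_neg fun h' => hAS (congrArg Sum.inr (Fin.ext h'))
    have eA : bv D K (top D) A = 1 := by simp [bv, A, idxCode]
    simp only [Pi.add_apply, Pi.smul_apply, smul_eq_mul, es, eA, ε]
    ring
  have hcd : cd D C (top D) = cd D C s + cd D C (D.simple i) := by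
    have hne : D.x K (D.simple i) (1 : K) A S' ≠ 0 := by
      rw [← coe_xGL hc (hc.simple_lt hir), hx, mul_one]
      rcases hε with e' | e' <;> simp [e']
    rcases hc.x_entry (hc.simple_lt hir) (1 : K) hne with e' | ⟨j, -, hφ⟩
    · exact absurd e' hAS
    have e1 := hφ _ hc.isAdd_ht
    have e3 := hφ _ hc.isAdd_cd
    simp only [wgt, A, S', hi1] at e1 e3
    have : (j : ℤ) = 1 := by linarith
    rw [this, one_mul] at e3
    exact e3
  refine ⟨ε, hε, ?_⟩
  have hG : ∀ {u : GL D.Idx K}, u ∈ D.posUnipotent K → u ∈ rootGen D K (htSet D C 1) := fun hu => by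
    rwa [htSet_one hc, ← hc.posUnipotent_eq]
  suffices h : ∀ u ∈ rootGen D K (htSet D C 1), dEnt u A S' = ε * crd X.hh hip.2 u by
    intro u hu
    have := h u (hG hu)
    rwa [dEnt, Matrix.sub_apply, Matrix.one_apply_ne hAS, sub_zero] at this
  have hlt : hlev D C A < hlev D C S' + ((1 : ℤ) + 1) := by
    simp only [hlev, wgt, A, S']
    omega
  intro u hu
  induction hu using Subgroup.closure_induction with
  | mem g hg =>
    obtain ⟨r, t, hr, eg'⟩ := hg
    have eg : g = xGL hc K hr.1.2 t := Units.ext eg'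
    subst eg
    rw [crd_x X.hh _ hip hr.1 (hi1.le.trans hr.2), dEnt, Matrix.sub_apply, Matrix.one_apply_ne hAS, sub_zero]
    split_ifs with e'
    · subst e'
      exact hx t
    · rw [mul_zero, coe_xGL]
      by_contra hne
      rcases hc.x_entry hr.1.2 t hne with e'' | ⟨j, hj, hφ⟩
      · exact hAS e''
      have e1 := hφ _ hc.isAdd_ht
      have e3 := hφ _ hc.isAdd_cd
      simp only [wgt, A, S'] at e1 e3
      have h0 := hc.ht_pos hr.1.2 hr.1.1
      have h1 : (1 : ℤ) ≤ j := by exact_mod_cast hj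
      have hj1 : (j : ℤ) = 1 := by nlinarith
      rw [hj1, one_mul] at e3
      rcases lt_trichotomy r (D.simple i) with hl | hl | hl
      · have := (hc.lt_iff_cd_lt hr.1.2 hip.2).1 hl; omega
      · exact e' hl
      · have := (hc.lt_iff_cd_lt hip.2 hr.1.2).1 hl; omega
  | one => rw [crd_one X.hh, mul_zero, dEnt, Units.val_one, sub_self, Matrix.zero_apply]
  | mul a b ha hb iha ihb =>
    rw [dEnt_mul hc (raises_htGen hc (by omega) ha).1 (raises_htGen hc (by omega) hb).1 hlt,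
      crd_mul X.hh (k := 1) (by omega) hip.2 (by omega) ha hb, iha, ihb, mul_add]
  | inv a ha iha =>
    have := dEnt_mul hc (g := a) (g' := a⁻¹) (raises_htGen hc (by omega) ha).1
      (raises_htGen hc (by omega) (inv_mem ha)).1 hlt
    rw [mul_inv_cancel, dEnt, Units.val_one, sub_self, Matrix.zero_apply, iha] at this
    rw [crd_inv X.hh (k := 1) (by omega) hip.2 (by omega) ha]
    linear_combination -this

namespace Setting

variable {D : ChevalleyDatum} {C : Cert} {K : Type*} [Field K] [Fintype K] {n : ℕ} (Z : Setting D C K n)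
  {H : Subgroup (GL D.Idx K)}

theorem small_of_chk (h : chkSmall Z.P Z.Tb = true) :
    ∀ o ∈ Z.Tb.orbs, ∀ a ∈ o, ∀ b ∈ o, b = a ∨ b = Z.P.root a ∨ b = Z.P.root (Z.P.root a) := by
  simp only [chkSmall, List.all_eq_true, Bool.or_eq_true, natBeq_iff, or_assoc] at h
  exact h

theorem top_M : Z.X0.xA 1 ∈ Z.M := Z.xA_mem (one_mem _) (topRoot_facts Z.hh Z.hT).1 Z.root_top

/-- The canonical form of a fixed element over a rational representative. -/
theorem exists_form {h : GL D.Idx K} (hG : h ∈ Z.O.G) :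
    ∃ L, IsWord D L ∧ ∃ v ∈ D.posUnipotent K, v ∈ Z.O.G ∧ ∃ c : ℕ → Kˣ, ∃ u ∈ D.posUnipotent K, u ∈ Z.O.G ∧
      h = v * torusHom D K c * nProd Z.hh.toChecked K L * u := by
  have hf : h ∈ Z.T.fixedGroup := Z.G_eq ▸ hG
  obtain ⟨w, hw, hn⟩ := OrbitSys.fixed_canonical (T := Z.T) hf
  obtain ⟨L, hL, eL, hLG⟩ := Z.exists_rat_word hw
  obtain ⟨b, hb, u, hu, e⟩ := hn _ (eL ▸ Cls.of_word (hh := Z.T.hh) hL) (Z.G_eq ▸ hLG)
  obtain ⟨v, hv, t, ht', eb⟩ := OrbitSys.borel_fixed_split (T := Z.T) hb.1 hb.2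
  have htd : t ∈ D.diagonalSubgroup K := ht'.1
  rw [Z.hh.diagonalSubgroup_eq] at htd
  obtain ⟨c, rfl⟩ := htd
  have huU : u ∈ D.posUnipotent K := by
    have h1 := hu.1
    rw [← eL, ← rootGen_invSet Z.hh.toChecked hL] at h1
    rw [Z.hh.toChecked.posUnipotent_eq]
    exact rootGen_mono (Z.hh.toChecked.invSet_subset L) h1
  exact ⟨L, hL, v, hv.1, Z.G_eq.symm ▸ hv.2, c, u, huU, Z.G_eq.symm ▸ hu.2, by rw [e, eb]⟩

/-- Elements outside the untwisted part reverse the highest root. -/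
theorem perm_top (hMH : Z.M ≤ H) (hHG : H ≤ Z.O.G) (hU : ∀ u ∈ D.posUnipotent K, u ∈ H → u ∈ Z.M)
    (hsmall : chkSmall Z.P Z.Tb = true) (hlong : chkLong D C allLong = true) {h : GL D.Idx K}
    (hhH : h ∈ H) (hhM : h ∉ Z.M) {v : GL D.Idx K} (hv : v ∈ D.posUnipotent K) {c : ℕ → Kˣ} {L : List ℕ}
    (hL : IsWord D L) {u : GL D.Idx K} (hu : u ∈ D.posUnipotent K)
    (e : h = v * torusHom D K c * nProd Z.hh.toChecked K L * u) : perm C L (top D) = ng D (top D) := by
  have hc := Z.hh.toChecked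
  have hBlt : perm C L (top D) < D.nroots := hc.perm_lt hL Z.X0.top_lt
  set m : K := (torusFun D c (perm C L (top D)) : K) * ((weta C L (top D) : K) * 1)
  set xB := xGL hc K hBlt m
  set y := h * Z.X0.xA (1 : K) * h⁻¹
  have hy : y = v * xB * v⁻¹ := by
    simp only [y, xB, m, e]
    rw [← hc.conj_x hBlt, ← ChevSubfield.conj_nProd Z.hh hL Z.X0.top_lt]
    calc _ = v * torusHom D K c * nProd hc K L * (u * Z.X0.xA 1) * u⁻¹ * (nProd hc K L)⁻¹ *
          (torusHom D K c)⁻¹ * v⁻¹ := by group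
      _ = _ := by rw [← Z.X0.xA_central hu]; simp only [Ctx.xA]; group
  have hA : Z.X0.xA (1 : K) = v * Z.X0.xA (1 : K) * v⁻¹ := by
    rw [← Z.X0.xA_central hv, mul_inv_cancel_right]
  have hxH : Z.X0.xA (1 : K) ∈ H := hMH Z.top_M
  have hyH : y ∈ H := mul_mem (mul_mem hhH hxH) (inv_mem hhH)
  have hsm := Z.small_of_chk hsmall
  have hpar : ∀ g ∈ H, g * Z.X0.xA 1 = Z.X0.xA 1 * g → g ∈ Z.M := fun g hg hcm =>
    Z.parabolic_rat hMH hHG hU hsm hg
      (Z.X0.conj_top_mem (Z.G_le (hHG hg)) one_ne_zero (m := 1) (by rw [hcm, mul_inv_cancel_right]))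
  have hyM : y ∉ Z.M := fun hy' => hhM (Z.conj_top_rat hMH hHG hU hsm hhH hy')
  have hconj : ∀ a b : GL D.Idx K, a * b = b * a → v * a * v⁻¹ * (v * b * v⁻¹) = v * b * v⁻¹ * (v * a * v⁻¹) :=
    fun a b hab => by rw [conj_mul, conj_mul, hab]
  by_contra hne
  have hcomm : xB * Z.X0.xA 1 ≠ Z.X0.xA 1 * xB := by
    intro hcm
    refine hyM (hpar _ hyH ?_)
    rw [hy, hA]
    exact hconj _ _ hcm
  have hBt : perm C L (top D) ≠ top D := by
    intro e1
    refine hcomm ?_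
    have : xB = Z.X0.xA m := Units.ext (by simp only [xB, Ctx.xA, coe_xGL, e1])
    rw [this, Ctx.xA, Ctx.xA, hc.xGL_add, hc.xGL_add, add_comm]
  simp only [chkLong, Bool.and_eq_true, allN_iff] at hlong
  have hsp := hlong.2 _ hBlt
  simp only [allLong, Bool.not_true, Bool.false_or, Bool.or_eq_true, natBeq_iff, hBt, hne, false_or] at hsp
  rcases hct : cTerms C (top D) (perm C L (top D)) with _ | ⟨d, _ | ⟨d', rest⟩⟩ <;> rw [hct] at hsp
  · exact hcomm (commute_of_nil Z.hh Z.X0.top_lt hBlt hBt hne hct _ _)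
  · simp only [Bool.and_eq_true, natBeq_iff, decide_eq_true_eq, List.isEmpty_iff, Bool.not_eq_true',
      Bool.or_eq_false_iff, natBeq_eq, decide_eq_false_iff_not] at hsp
    obtain ⟨⟨⟨⟨⟨hd1, hd2⟩, hd3⟩, hnA⟩, hnB⟩, ⟨⟨hdA, hdA'⟩, hdB⟩, hdB'⟩ := hsp
    have hdlt : d.1 < D.nroots := hc.cTerms_lt Z.X0.top_lt hBlt d (by rw [hct]; simp)
    set zc : K := (d.2.1 : K) * (-1 : K) ^ d.2.2.1 * m ^ d.2.2.2
    set z := xGL hc K hdlt zc
    have hform : xB * Z.X0.xA 1 = Z.X0.xA 1 * xB * z := by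
      refine Units.ext ?_
      simp only [Units.val_mul, xB, z, zc, Ctx.xA, coe_xGL]
      rw [hc.commutator_formula Z.X0.top_lt hBlt hBt hne 1 m, hc.commWord_eq Z.X0.top_lt hBlt, hct]
      simp [ChevalleyDatum.wordMat]
    have hzA : z * Z.X0.xA 1 = Z.X0.xA 1 * z := commute_of_nil Z.hh Z.X0.top_lt hdlt hdA hdA' hnA _ _
    have hzB : z * xB = xB * z := commute_of_nil Z.hh hBlt hdlt hdB hdB' hnB _ _
    have hzA' : Commute (v * z * v⁻¹) (Z.X0.xA 1) := by
      rw [hA]; exact hconj _ _ hzA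
    have hw : y * Z.X0.xA 1 * y⁻¹ = Z.X0.xA 1 * (v * z * v⁻¹) := by
      calc y * Z.X0.xA 1 * y⁻¹ = (v * xB * v⁻¹) * (v * Z.X0.xA 1 * v⁻¹) * (v * xB * v⁻¹)⁻¹ := by rw [hy, ← hA]
        _ = v * (xB * Z.X0.xA 1 * xB⁻¹) * v⁻¹ := by group
        _ = v * (Z.X0.xA 1 * (z * xB) * xB⁻¹) * v⁻¹ := by rw [hform, mul_assoc (Z.X0.xA 1), ← hzB]
        _ = (v * Z.X0.xA 1 * v⁻¹) * (v * z * v⁻¹) := by group
        _ = _ := by rw [← hA]
    refine hyM (Z.conj_top_rat hMH hHG hU hsm hyH (hpar _ (mul_mem (mul_mem hyH hxH) (inv_mem hyH)) ?_))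
    rw [hw]
    exact ((Commute.refl _).mul_left hzA').eq
  · simp at hsp

/-- The untwisted part is maximal. -/
theorem maximal (p : ℕ) [Fact p.Prime] [CharP K p] (hs : chkEtaSigns D C = true)
    (hMH : Z.M ≤ H) (hHG : H ≤ Z.O.G) (hW : chkWords D C Z.Tb = true) (hsmall : chkSmall Z.P Z.Tb = true)
    (hlong : chkLong D C allLong = true) {i : ℕ} (hline : chkFixLine D C Z.P i = true)
    (hi : ∃ j, Z.O.orb j = [i])
    (hwords : ∀ j, (Z.O.orb j).length = 1 ∨
      ∃ w ∈ Z.Tb.words, w.2 = Z.O.orb j ∧ ∃ js : List (Fin n), w.1 = js.flatMap Z.O.orb)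
    (hper : ∀ j, (Z.O.orb j).length = 1 ∨ ∀ a, Z.φ^[(Z.O.orb j).length] a = a)
    (hgen : ∀ U : Subgroup (GL D.Idx K), (∀ j t, Z.Compat j t →
      orbElt Z.hh.toChecked K (Z.O.orb j) (Z.O.isWordOrb j) t ∈ U ∧
        orbEltNeg Z.hh.toChecked K (Z.O.orb j) (Z.O.isWordOrb j) t ∈ U) → Z.O.G ≤ U) :
    H = Z.M ∨ H = Z.O.G := by
  by_cases hst : ∀ v : ℕ → K, oElt Z.hh Z.Tb.star v ∈ H → oElt Z.hh Z.Tb.star v ∈ ratGroup D Z.S
  swap
  · push Not at hst
    obtain ⟨v, hv, hvn⟩ := hst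
    exact Or.inr (Z.eq_G_of_star p hs hMH hHG hW hwords hper hgen hv hvn)
  refine Or.inl (le_antisymm (fun h hhH => ?_) hMH)
  have hU := Z.unip_rat hMH hHG hst
  by_contra hhM
  have hc := Z.hh.toChecked
  simp only [chkFixLine, Bool.and_eq_true, natBeq_iff, decide_eq_true_eq, htB_eq] at hline
  obtain ⟨⟨hline1, hfix⟩, hht⟩ := hline
  obtain ⟨hir, ε, hε, hent⟩ := entry_crd Z.X0 hline1 hht
  have hip : D.simple i ∈ posSet D := ⟨hc.sroot_pos hir, hc.simple_lt hir⟩
  obtain ⟨L, hL, v, hv, -, c, u, hu, huG, e⟩ := Z.exists_form (hHG hhH)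
  have hperm := Z.perm_top hMH hHG hU hsmall hlong hhH hhM hv hL hu e
  set a := crd Z.hh hip.2 u
  have ha : a ∈ Z.S.k := by
    have := Z.crd_rat le_rfl hip (hc.simple_ht hir) hfix (g := u)
      (by rwa [htSet_one hc, ← hc.posUnipotent_eq]) huG
    rwa [cT_eq Z.hh hip.2] at this
  set g := xGL hc K hip.2 (-a) * nProd hc K [i]
  have hgM : g ∈ Z.M := by
    refine mul_mem (Z.xA_mem (neg_mem ha) hip hfix) ⟨?_, nProd_mem_rat Z.hh Z.S (by simp [IsWord, hir])⟩
    obtain ⟨j, hj⟩ := hi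
    have := Z.nProd_orbs_mem [j]
    simpa [hj] using this
  have hgH : h * g ∈ H := mul_mem hhH (hMH hgM)
  have hgM' : h * g ∉ Z.M := fun hm => hhM (by
    have := mul_mem hm (inv_mem hgM)
    rwa [mul_inv_cancel_right] at this)
  obtain ⟨L', hL', v', hv', -, c', u', hu', -, e'⟩ := Z.exists_form (hHG hgH)
  have hperm' := Z.perm_top hMH hHG hU hsmall hlong hgH hgM' hv' hL' hu' e'
  set A : D.Idx := Sum.inr ⟨top D, Z.X0.top_lt⟩
  set NA : D.Idx := Sum.inr ⟨ng D (top D), Checked.ng_lt Z.X0.top_lt⟩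
  have hentry : ∀ {h v u : GL D.Idx K}, v ∈ D.posUnipotent K → ∀ {c : ℕ → Kˣ} {L : List ℕ}, IsWord D L →
      perm C L (top D) = ng D (top D) → h = v * torusHom D K c * nProd hc K L * u →
      ∀ M : Matrix D.Idx D.Idx K, ((h : Matrix D.Idx D.Idx K) * M) NA A =
        (torusFun D c (ng D (top D)) : K) * (weta C L (top D) : K) *
          ((u : Matrix D.Idx D.Idx K) * M) A A := by
    intro h v u hv c L hL hperm e M
    rw [e]
    simp only [Units.val_mul, Matrix.mul_assoc]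
    rw [Z.X0.bottom_row hv, coe_torusHom, ChevalleyDatum.charDiag, Matrix.diagonal_mul]
    have h1 := nProd_row (K := K) Z.hh hL Z.X0.top_lt ((u : Matrix D.Idx D.Idx K) * M) A
    simp only [hperm] at h1
    simp only [NA, h1, mul_assoc, Sum.elim_inr]
    rfl
  have h1 := hentry hv hL hperm e (g : Matrix D.Idx D.Idx K)
  have h2 := hentry hv' hL' hperm' e' 1
  rw [Matrix.mul_one, Matrix.mul_one, Z.X0.diag_one hu', mul_one, Units.val_mul, h1] at h2
  have hw : ∀ L : List ℕ, (weta C L (top D) : K) ≠ 0 := fun L => by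
    rcases Chev.weta_cases (C := C) L (top D) with e1 | e1 <;> simp [e1]
  refine mul_ne_zero (Units.ne_zero _) (hw L') (h2.symm.trans ?_)
  suffices ((u : Matrix D.Idx D.Idx K) * (g : Matrix D.Idx D.Idx K)) A A = 0 by rw [this, mul_zero]
  have hwi : IsWord D [i] := by simp [IsWord, hir]
  rw [← Units.val_mul, show u * g = u * xGL hc K hip.2 (-a) * nProd hc K [i] by simp only [g, mul_assoc],
    Units.val_mul, mul_nProd_col Z.hh hwi Z.X0.top_lt]
  have hux : u * xGL hc K hip.2 (-a) ∈ D.posUnipotent K :=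
    mul_mem hu (by rw [hc.posUnipotent_eq]; exact mem_rootGen hip (coe_xGL _ _ _))
  have h3 := hent _ hux
  have hU1 : ∀ {z : GL D.Idx K}, z ∈ D.posUnipotent K → z ∈ rootGen D K (htSet D C 1) := fun hz => by
    rwa [htSet_one hc, ← hc.posUnipotent_eq]
  rw [crd_mul Z.hh (k := 1) (by omega) hip.2 (by rw [hc.simple_ht hir]; norm_num) (hU1 hu)
      (mem_rootGen ⟨hip, (hc.simple_ht hir).ge⟩ (coe_xGL _ _ _)),
    crd_x Z.hh hip.2 hip hip le_rfl, if_pos rfl, add_neg_cancel, mul_zero] at h3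
  have hperm1 : perm C [i] (top D) = refl C i (top D) := by simp [perm]
  simp only [hperm1]
  exact mul_eq_zero_of_right _ h3

theorem ne_G (hperj : ∃ j, (Z.O.orb j).length ≠ 1 ∧ ∀ a, Z.φ^[(Z.O.orb j).length] a = a) : Z.M ≠ Z.O.G := by
  obtain ⟨j, -, hper⟩ := hperj
  obtain ⟨t, ht'⟩ : ∃ t, t ∉ Z.S.k := by
    by_contra h
    push Not at h
    exact Z.S.ne_top (eq_top_iff.2 fun x _ => h x)
  intro e
  have hmem := Z.O.pos_mem j (Z.O.isWordOrb j) (fun i => Z.tau j i t) (Z.tau_compat hper t)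
  rw [← e] at hmem
  have e2 := (mem_ratGroup.1 hmem.2).2
  rw [(glMap_orbElt Z.hh.toChecked Z.S.σ _ _).1] at e2
  obtain ⟨i, hi⟩ : ∃ i, i ∈ Z.O.orb j := List.exists_mem_of_ne_nil _ (Z.O.facts j).1
  obtain ⟨p, hp, rfl⟩ := List.mem_iff_getElem.1 hi
  have h3 := orbElt_inj Z.hh _ (Z.O.facts j).2.2.2.2.1 e2 _ hi
  rw [← List.getD_eq_getElem _ 0 hp, Z.tau_getD j hp, RingHom.coe_pow] at h3
  have h4 : Z.φ^[p] t ∈ Z.S.k := (Z.S.fix _).1 h3
  exact ht' (Z.k_iff.2 (Z.φ.injective.iterate p (by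
    show Z.φ^[p] (Z.φ t) = Z.φ^[p] t
    rw [← Function.iterate_succ_apply, Function.iterate_succ_apply', Z.k_iff.1 h4])))

end Setting

end Cfsg.Agent.Lib.ChevTwistMax
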