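import Cfsg.Agent.Lib.ChevSubfield.Setup
import Cfsg.Agent.Lib.Twisted.Core.GraphSystem

/-!
The homomorphism of `SL₂` along an orbit of orthogonal fundamental roots.
-/

set_option autoImplicit false

namespace Cfsg.Agent.Lib.ChevTwistMax

open Cfsg.Lie Cfsg.Agent.Lib.Chev Cfsg.Agent.Lib.ChevField Cfsg.Agent.Lib.Twisted.Core
open Cfsg.Agent.Lib

variable {D : ChevalleyDatum} {C : Cert} {F : Type*} [Field F]

theorem map_upper (τ : F →+* F) (a : F) :
    Matrix.SpecialLinearGroup.map τ (SL2.upper a) = SL2.upper (τ a) ∧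
      Matrix.SpecialLinearGroup.map τ (SL2.lower a) = SL2.lower (τ a) := by
  constructor <;> apply SL2.ext_entries <;>
    simp [Matrix.SpecialLinearGroup.map_apply_coe]

theorem range_commute {i : ℕ} (hh : Rooted D C) (hi : i < D.rank) {f : Matrix.SpecialLinearGroup (Fin 2) F →* GL D.Idx F}
    (hf : f.range = D.rootSubgroup F (D.simple i) ⊔ D.rootSubgroup F (ng D (D.simple i))) {x : GL D.Idx F}
    (h1 : ∀ t, Commute (xGL hh.toChecked F (hh.toChecked.simple_lt hi) t) x ∧
      Commute (xGL hh.toChecked F (Checked.ng_lt (hh.toChecked.simple_lt hi)) t) x)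
    (g : Matrix.SpecialLinearGroup (Fin 2) F) : Commute (f g) x := by
  have h := hh.toChecked
  have hle : f.range ≤ Subgroup.centralizer {x} := by
    rw [hf]
    refine sup_le (fun y hy => ?_) fun y hy => ?_
    · obtain ⟨t, rfl⟩ := (h.rootSubgroup_mem_iff (h.simple_lt hi)).1 hy
      exact Subgroup.mem_centralizer_singleton_iff.2 (h1 t).1
    · obtain ⟨t, rfl⟩ := (h.rootSubgroup_mem_iff (Checked.ng_lt (h.simple_lt hi))).1 hy
      exact Subgroup.mem_centralizer_singleton_iff.2 (h1 t).2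
  exact Subgroup.mem_centralizer_singleton_iff.1 (hle ⟨g, rfl⟩)

/-- Field embeddings along orthogonal fundamental roots give a homomorphism of `SL₂`. -/
theorem exists_orbHom (hh : Rooted D C) (hs : Twisted.chkEtaSigns D C = true) (τ : ℕ → (F →+* F)) :
    ∀ {L : List ℕ} (hL : IsWord D L),
      L.Pairwise (fun a b => chkOrth D C b a = true ∧ chkOrth D C a b = true) →
      ∃ ψ : Matrix.SpecialLinearGroup (Fin 2) F →* GL D.Idx F,
        (∀ a, ψ (SL2.upper a) = orbElt hh.toChecked F L hL (fun i => τ i a) ∧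
          ψ (SL2.lower a) = orbEltNeg hh.toChecked F L hL (fun i => τ i a)) ∧
        ∀ g, ∀ j, ∀ hj : j < D.rank, (∀ i ∈ L, chkOrth D C i j = true) → ∀ t,
          Commute (ψ g) (xGL hh.toChecked F (hh.toChecked.simple_lt hj) t) ∧
            Commute (ψ g) (xGL hh.toChecked F (Checked.ng_lt (hh.toChecked.simple_lt hj)) t)
  | [], _, _ => ⟨1, fun _ => ⟨rfl, rfl⟩, fun _ _ _ _ _ => ⟨Commute.one_left _, Commute.one_left _⟩⟩
  | i :: L, hL, ho => by
    have h := hh.toChecked
    obtain ⟨ho1, ho2⟩ := List.pairwise_cons.1 ho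
    obtain ⟨ψ', hψ, hψc⟩ := exists_orbHom hh hs τ hL.cons.2 ho2
    have hi := hL.cons.1
    obtain ⟨φ, hr, hφ⟩ := hh.hasSL2 (F := F) hs (D.simple i) (h.simple_lt hi) (h.simple_lt hi)
    set f : Matrix.SpecialLinearGroup (Fin 2) F →* GL D.Idx F := φ.comp (Matrix.SpecialLinearGroup.map (τ i))
    have hfg : ∀ (x : GL D.Idx F), (∀ t, Commute (xGL h F (h.simple_lt hi) t) x ∧
        Commute (xGL h F (Checked.ng_lt (h.simple_lt hi)) t) x) → ∀ g, Commute (f g) x :=
      fun x hx g => range_commute hh hi hr hx _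
    have hcomm : ∀ a b, Commute (ψ' a) (f b) := fun a b =>
      (hfg _ (fun t => ⟨((hψc a i hi (fun l hl => (ho1 l hl).1) t).1).symm,
        ((hψc a i hi (fun l hl => (ho1 l hl).1) t).2).symm⟩) b).symm
    refine ⟨MonoidHom.mk' (fun g => f g * ψ' g) (fun a b => ?_), fun a => ?_, fun g j hj hoj t => ?_⟩
    · rw [map_mul, map_mul]
      simp only [mul_assoc]
      rw [← mul_assoc (f b), ← (hcomm a b).eq, mul_assoc]
    · have hu : φ (SL2.upper (τ i a)) = xGL h F (h.simple_lt hi) (τ i a) := (hφ _).1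
      have hl : φ (SL2.lower (τ i a)) = xGL h F (Checked.ng_lt (h.simple_lt hi)) (τ i a) := (hφ _).2
      simp only [MonoidHom.mk'_apply, f, MonoidHom.comp_apply, map_upper, (hψ a).1, (hψ a).2, hu, hl]
      exact ⟨rfl, rfl⟩
    · obtain ⟨h1, h2⟩ := hψc g j hj (fun l hl => hoj l (List.mem_cons_of_mem _ hl)) t
      have hij : chkOrth D C i j = true := hoj i List.mem_cons_self
      refine ⟨(hfg _ (fun s => ?_) g).mul_left h1, (hfg _ (fun s => ?_) g).mul_left h2⟩
      · obtain ⟨c1, -, c3, -⟩ := commute_orth h (F := F) hi hj hij s t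
        exact ⟨c1, c3⟩
      · obtain ⟨-, c2, -, c4⟩ := commute_orth h (F := F) hi hj hij s t
        exact ⟨c2, c4⟩

theorem glMap_orbElt (h : Checked D C) (σ : F →+* F) : ∀ {L : List ℕ} (hL : IsWord D L) (t : ℕ → F),
    glMap D σ (orbElt h F L hL t) = orbElt h F L hL (fun i => σ (t i)) ∧
      glMap D σ (orbEltNeg h F L hL t) = orbEltNeg h F L hL (fun i => σ (t i))
  | [], _, _ => ⟨map_one _, map_one _⟩
  | i :: L, hL, t => by
    obtain ⟨e1, e2⟩ := glMap_orbElt h σ hL.cons.2 t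
    simp only [orbElt, orbEltNeg, map_mul, glMap_xGL, e1, e2, and_self]

end Cfsg.Agent.Lib.ChevTwistMax
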