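import Cfsg.Agent.Lib.ChevTwistMax.Unip

/-!
Rational representatives, and the stabiliser of the highest root subgroup in an overgroup.
-/

set_option autoImplicit false

namespace Cfsg.Agent.Lib.ChevTwistMax

open Cfsg.Lie Cfsg.Agent.Lib.Chev Cfsg.Agent.Lib.ChevSubfield Cfsg.Agent.Lib.ChevField Cfsg.Agent.Lib.Twisted
open Cfsg.Agent.Lib.Twisted.Core

namespace Setting

variable {D : ChevalleyDatum} {C : Cert} {K : Type*} [Field K] [Fintype K] {n : ℕ} (Z : Setting D C K n)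

/-- The ambient setting for the facts on the highest root. -/
def X0 : Ctx D C K :=
  ⟨Z.hh, Z.hT, Z.S, ratGroup D Z.S, le_rfl, ratGroup_le _, fun _ _ hu => hu⟩

/-- Every fixed element of the Weyl group has a representative in the untwisted part. -/
theorem exists_rat_word {w : Equiv.Perm (Fin D.nroots)} (hw : Z.T.FixW w) :
    ∃ L, IsWord D L ∧ wperm Z.hh.toChecked L = w ∧ nProd Z.hh.toChecked K L ∈ Z.O.G := by
  refine Z.O.system.fixW_induction (P := fun w => ∃ L, IsWord D L ∧ wperm Z.hh.toChecked L = w ∧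
    nProd Z.hh.toChecked K L ∈ Z.O.G) ⟨[], by simp [IsWord], wperm_nil _, by simp [nProd, one_mem]⟩ ?_ hw
  rintro w j - - ⟨L, hL, e, hG⟩
  refine ⟨L ++ Z.O.orb j, hL.append (Z.O.isWordOrb j), ?_, ?_⟩
  · rw [wperm_append, e]
    show w * Z.O.system.wJ j * Z.O.system.wJ j = w
    rw [mul_assoc, show Z.O.system.wJ j * Z.O.system.wJ j = 1 from Z.O.system.word_sq j, mul_one]
  · rw [nProd_append]
    refine mul_mem hG ?_
    rw [← orbN_one Z.hh.toChecked (Z.O.isWordOrb j)]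
    exact Z.O.orbN_mem j _ fun i _ => by rw [map_one]

/-- A coset of a Borel subgroup fixed by both endomorphisms meets the untwisted part. -/
theorem rep_core {x : GL D.Idx K} (hx : x ∈ D.group K) (hs : x⁻¹ * Z.T.sig x ∈ D.borelSubgroup K)
    (hf : x⁻¹ * glMap D Z.S.σ x ∈ D.borelSubgroup K) : ∃ m ∈ Z.M, m⁻¹ * x ∈ D.borelSubgroup K := by
  have h := Z.hh.toChecked
  obtain ⟨L, hL, b, hb, u, hu, e⟩ := Z.hh.exists_canonical (inv_mem hx)
  set b₀ := x⁻¹ * Z.T.sig x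
  have hL' := Z.T.node_word hL
  have huU : u ∈ Twist.uGrp D K (wperm h L) := by rw [← rootGen_invSet h hL]; exact hu
  have huG := uGrp_le_group Z.hh _ huU
  have hbG := Z.hh.borel_le_group hb
  have hnG : ∀ {M : List ℕ}, IsWord D M → nProd h K M ∈ D.group K := fun hM => Z.T.nProd_mem_group hM
  have e1 : Z.T.sig x⁻¹ = b₀⁻¹ * x⁻¹ := by rw [Z.T.sig_inv hx]; simp only [b₀]; group
  have e2 : Z.T.sig x⁻¹ = Z.T.sig b * nProd h K (L.map Z.T.node) * Z.T.sig u := by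
    rw [e, Z.T.sig_mul (mul_mem hbG (hnG hL)) huG, Z.T.sig_mul hbG (hnG hL)]
    exact congrArg (fun z : GL D.Idx K => Z.T.sig b * z * Z.T.sig u) (Z.T.sig_nProd hL)
  have hsu : Z.T.sig u ∈ rootGen D K (invSet D C (L.map Z.T.node)) := by
    rw [rootGen_invSet h hL', show wperm h (L.map Z.T.node) = Z.T.rho * wperm h L * Z.T.rho⁻¹ by
      rw [show Z.T.rho * wperm h L = wperm h (L.map Z.T.node) * Z.T.rho from Z.T.rho_wperm hL,
        mul_inv_cancel_right]]
    exact Z.T.sig_uGrp huU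
  have hd := Z.hh.diag_mem_of_mem_doubleCoset (Z.hh.nProd_mem_monomial hL) (Z.hh.nProd_mem_monomial hL')
    (Z.hh.canonical_mem hL (mul_mem (inv_mem hs) hb) hu) (by
      rw [show b₀⁻¹ * b * nProd Z.hh.toChecked K L * u = Z.T.sig x⁻¹ by rw [e1, e]; simp only [mul_assoc], e2]
      exact Z.hh.canonical_mem hL' (Z.T.sig_borel hb) hsu)
  have heq : wperm h (L.map Z.T.node) = wperm h L := Z.hh.wperm_eq_of_diag hL hL' hd
  have hfix : Z.T.FixW (wperm h L) := ⟨h.mem_weyl_of_word hL, by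
    have := Z.T.rho_wperm hL
    rwa [show wperm Z.T.hh.toChecked (L.map Z.T.node) = wperm h L from heq] at this⟩
  obtain ⟨M, hM, eM, hMG⟩ := Z.exists_rat_word hfix
  obtain ⟨t, ht, et⟩ := Z.hh.nProd_conj_diag hM (Z.hh.diag_of_wperm_eq (F := K) hM hL eM)
  rw [mul_inv_cancel_left] at et
  have hb' : b * t ∈ D.borelSubgroup K := mul_mem hb (Subgroup.mem_sup_right ht)
  have e' : x⁻¹ = b * t * nProd Z.hh.toChecked K M * u := by rw [e, et]; simp only [mul_assoc]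
  have huM : u ∈ rootGen D K (invSet D C M) := by rw [rootGen_invSet h hM, eM]; exact huU
  have hsu' : Z.T.sig u ∈ rootGen D K (invSet D C M) := by
    rw [rootGen_invSet h hM, eM]; exact OrbitSys.sig_uGrp_fix hfix huU
  have hbtG := Z.hh.borel_le_group hb'
  have esig : Z.T.sig (b * t) * nProd Z.hh.toChecked K M * Z.T.sig u =
      b₀⁻¹ * (b * t) * nProd Z.hh.toChecked K M * u := by
    have : Z.T.sig x⁻¹ = Z.T.sig (b * t) * nProd Z.hh.toChecked K M * Z.T.sig u := by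
      rw [e', Z.T.sig_mul (mul_mem hbtG (hnG hM)) huG, Z.T.sig_mul hbtG (hnG hM), (Z.mem_G.1 hMG).2]
    rw [← this, e1, e']
    simp only [mul_assoc]
  obtain ⟨-, hus⟩ := Z.hh.canonical_unique hM (Z.T.sig_borel hb') (mul_mem (inv_mem hs) hb') hsu' huM esig
  have efrob : glMap D Z.S.σ (b * t) * nProd Z.hh.toChecked K M * glMap D Z.S.σ u =
      (x⁻¹ * glMap D Z.S.σ x)⁻¹ * (b * t) * nProd Z.hh.toChecked K M * u := by
    have h1 : glMap D Z.S.σ x⁻¹ = (x⁻¹ * glMap D Z.S.σ x)⁻¹ * x⁻¹ := by rw [map_inv]; group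
    have h2 : glMap D Z.S.σ x⁻¹ = glMap D Z.S.σ (b * t) * nProd Z.hh.toChecked K M * glMap D Z.S.σ u := by
      rw [e', map_mul, map_mul, glMap_nProd]
    rw [← h2, h1, e']
    simp only [mul_assoc]
  obtain ⟨-, huf⟩ := Z.hh.canonical_unique hM (glMap_borel Z.hh _ hb') (mul_mem (inv_mem hf) hb')
    (glMap_rootGen _ huM) huM efrob
  refine ⟨u⁻¹ * (nProd Z.hh.toChecked K M)⁻¹, mul_mem (inv_mem ⟨Z.mem_G.2 ⟨huG, hus⟩, ⟨huG, huf⟩⟩)
    (inv_mem ⟨hMG, nProd_mem_rat Z.hh Z.S hM⟩), ?_⟩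
  have : (u⁻¹ * (nProd Z.hh.toChecked K M)⁻¹)⁻¹ * x = (b * t)⁻¹ := by
    rw [show x = (b * t * nProd Z.hh.toChecked K M * u)⁻¹ by rw [← e', inv_inv]]
    group
  rw [this]
  exact inv_mem hb'

theorem pairing_root {r : ℕ} (hr : r < D.nroots) :
    D.pairing (top D) (Z.P.root r) = D.pairing (top D) r := by
  have h := Z.hN
  simp only [chkNode, allN_iff, decide_eq_true_eq] at h
  exact h r hr

theorem node_JA {j : ℕ} (hj : j ∈ Z.X0.JA) : Z.T.node j ∈ Z.X0.JA := by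
  have hjr := Finset.mem_range.1 (Z.X0.JA_subset hj)
  rw [Z.X0.mem_JA (Z.T.node_lt j hjr), ← Z.T.rho_simple j hjr]
  show D.pairing (top D) (Z.P.root (D.simple j)) = 0
  exact (Z.pairing_root (Z.hh.toChecked.simple_lt hjr)).trans ((Z.X0.mem_JA hjr).1 hj)

theorem sig_parabolic {g : GL D.Idx K} (hg : g ∈ D.parabolicSubgroup K (Z.X0.JA : Set ℕ)) :
    Z.T.sig g ∈ D.parabolicSubgroup K (Z.X0.JA : Set ℕ) := by
  set P := D.parabolicSubgroup K (Z.X0.JA : Set ℕ)
  let Q : Subgroup (GL D.Idx K) := ((P.subgroupOf (D.group K)).comap Z.T.sigma).map (D.group K).subtype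
  have hmem : ∀ {x : GL D.Idx K}, x ∈ D.group K → Z.T.sig x ∈ P → x ∈ Q := fun {x} hx hs =>
    ⟨⟨x, hx⟩, by
      show (Z.T.sigma ⟨x, hx⟩ : GL D.Idx K) ∈ P
      rwa [← Z.T.sig_eq hx], rfl⟩
  have hle : P ≤ Q := by
    refine sup_le (fun b hb => hmem (Z.hh.borel_le_group hb) (Subgroup.mem_sup_left (Z.T.sig_borel hb))) ?_
    rw [Subgroup.closure_le]
    rintro x ⟨j, hjJ, hj, e⟩
    have ex : x = nS Z.hh.toChecked K j := Units.ext (by rw [e, coe_nS _ hj])
    subst ex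
    refine hmem (Z.hh.nS_mem_group hj) ?_
    rw [show Z.T.sig (nS Z.hh.toChecked K j) = nS Z.hh.toChecked K (Z.T.node j) from Z.T.sig_nS hj]
    exact Z.hh.nS_mem_parabolic (Z.node_JA hjJ) (Z.T.node_lt j hj)
  obtain ⟨y, hy, e⟩ := hle hg
  subst e
  rw [Subgroup.coe_subtype, Z.T.sig_eq y.2]
  exact hy

/-- A coset of the parabolic subgroup fixed by the field automorphism meets the untwisted part. -/
theorem rep_parabolic {g : GL D.Idx K} (hg : g ∈ Z.O.G)
    (hz : g⁻¹ * glMap D Z.S.σ g ∈ D.parabolicSubgroup K (Z.X0.JA : Set ℕ)) :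
    ∃ m ∈ Z.M, m⁻¹ * g ∈ D.parabolicSubgroup K (Z.X0.JA : Set ℕ) := by
  have h := Z.hh.toChecked
  set J := Z.X0.JA
  set P := D.parabolicSubgroup K (J : Set ℕ)
  obtain ⟨hgD, hgs⟩ := Z.mem_G.1 hg
  obtain ⟨w, hw⟩ := Z.hh.exists_bcell hgD
  obtain ⟨q, hq, w', hw', hgq⟩ := Z.hh.parabolic_exists Z.X0.JA_subset hw
  have hqG := Z.hh.parabolic_le_group J hq
  obtain ⟨L, hL, eL⟩ := h.exists_word_of_weyl (bcell_mem_weyl hgq)
  obtain ⟨b, hb, c, hc, e'⟩ := Z.hh.exists_of_mem_bcell hL (eL.symm ▸ hgq)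
  have hL' := Z.T.node_word hL
  have hσq : Z.T.sig (g * q) ∈ bcell Z.hh.toChecked K (wperm h (L.map Z.T.node)) := by
    have hbG := Z.hh.borel_le_group hb
    rw [e', Z.T.sig_mul (mul_mem hbG (Z.T.nProd_mem_group hL)) (Z.hh.borel_le_group hc),
      Z.T.sig_mul hbG (Z.T.nProd_mem_group hL)]
    refine bcell_mul_right (bcell_mul_left (Z.T.sig_borel hb) ?_) (Z.T.sig_borel hc)
    rw [show Z.T.sig (nProd Z.hh.toChecked K L) = nProd Z.hh.toChecked K (L.map Z.T.node) from Z.T.sig_nProd hL]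
    exact Z.hh.nProd_mem_bcell hL'
  have hasc : ∀ j ∈ J, Asc (wperm h (L.map Z.T.node)) j := by
    intro j hj
    obtain ⟨i, hi, rfl⟩ := Finset.surj_on_of_inj_on_of_card_le (fun i _ => Z.T.node i) (fun i hi => Z.node_JA hi)
      (fun a b ha hb e => Z.T.node_inj (Finset.mem_range.1 (Z.X0.JA_subset ha))
        (Finset.mem_range.1 (Z.X0.JA_subset hb)) e) le_rfl j hj
    have hir := Finset.mem_range.1 (Z.X0.JA_subset hi)
    have h1 := hw' i hi
    rw [← eL, h.asc_iff hir] at h1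
    rw [h.asc_iff (Z.T.node_lt i hir), ← Z.T.sroot_rho hir, ← Equiv.Perm.mul_apply,
      show wperm h (L.map Z.T.node) * Z.T.rho = Z.T.rho * wperm h L from (Z.T.rho_wperm hL).symm,
      Equiv.Perm.mul_apply, Z.T.rho_pos]
    exact h1
  have hf : glMap D Z.S.σ (g * q) ∈ bcell Z.hh.toChecked K w' := by
    rw [e', map_mul, map_mul, glMap_nProd, ← eL]
    exact bcell_mul_right (bcell_mul_left (glMap_borel Z.hh _ hb) (Z.hh.nProd_mem_bcell hL))
      (glMap_borel Z.hh _ hc)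
  have hp1 : (g * q)⁻¹ * Z.T.sig (g * q) ∈ P := by
    rw [Z.T.sig_mul hgD hqG, hgs, mul_inv_rev, mul_assoc, inv_mul_cancel_left]
    exact mul_mem (inv_mem hq) (Z.sig_parabolic hq)
  have hp2 : (g * q)⁻¹ * glMap D Z.S.σ (g * q) ∈ P := by
    have : (g * q)⁻¹ * glMap D Z.S.σ (g * q) = q⁻¹ * (g⁻¹ * glMap D Z.S.σ g) * glMap D Z.S.σ q := by
      rw [map_mul]; group
    rw [this]
    exact mul_mem (mul_mem (inv_mem hq) hz) (glMap_parabolic Z.hh _ hq)
  obtain ⟨m, hm, hmb⟩ := Z.rep_core (mul_mem hgD hqG)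
    (Z.hh.parabolic_inj Z.X0.JA_subset hgq hσq hw' hasc hp1).2
    (Z.hh.parabolic_inj Z.X0.JA_subset hgq hf hw' hw' hp2).2
  refine ⟨m, hm, ?_⟩
  have := mul_mem (Subgroup.mem_sup_left hmb : m⁻¹ * (g * q) ∈ P) (inv_mem hq)
  rwa [← mul_assoc, mul_inv_cancel_right] at this

theorem root_out {r : ℕ} (hr : r ∈ outSet D C Z.X0.JA) : Z.P.root r ∈ outSet D C Z.X0.JA := by
  refine Z.X0.mem_out_of_pairing (Z.root_pos hr.1) ?_
  rw [Z.pairing_root hr.1.2, pairing_expand Z.hh Z.X0.top_lt hr.1.2]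
  obtain ⟨l, hl, hlJ, hp⟩ := Z.hh.toChecked.exists_coef_pos_of_not_supp hr
  refine Finset.sum_pos' (fun i hi => mul_nonneg (Z.hh.toChecked.coef_nonneg (Finset.mem_range.1 hi) hr.1.2 hr.1.1)
    ((topRoot_facts Z.hh Z.hT).2.2.2.2.1 i (Finset.mem_range.1 hi)).1) ⟨l, Finset.mem_range.2 hl, mul_pos hp ?_⟩
  rcases ((topRoot_facts Z.hh Z.hT).2.2.2.2.1 l hl).1.lt_or_eq with h | h
  · exact h
  · exact absurd ((Z.X0.mem_JA hl).2 h.symm) hlJ

include Z in
theorem crd_borel_conj {b x : GL D.Idx K} (hb : b ∈ D.borelSubgroup K) {k : ℤ} (hk : 1 ≤ k)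
    (hx : x ∈ rootGen D K (htSet D C k)) : b * x * b⁻¹ ∈ rootGen D K (htSet D C k) := by
  have h := Z.hh.toChecked
  obtain ⟨v, hv, t, ht, rfl⟩ := Z.hh.mem_borel_iff.1 hb
  have h1 : t * x * t⁻¹ ∈ rootGen D K (htSet D C k) :=
    (Subgroup.mem_normalizer_iff.1 (Z.hh.diagonal_le_normalizer (htSet_lt k) ht) _).1 hx
  rw [show v * t * x * (v * t)⁻¹ = v * (t * x * t⁻¹) * v⁻¹ by group]
  have hyU : t * x * t⁻¹ ∈ D.posUnipotent K := by
    rw [h.posUnipotent_eq]; exact rootGen_mono (htSet_subset k) h1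
  have hr1 := (raises_conj (C := C) h (k := k) (by omega) (a := v) (c := t * x * t⁻¹)
    (by rwa [htSet_one h, ← h.posUnipotent_eq])
    (raises_htGen h (by omega) h1).1).1
  obtain ⟨m, hm⟩ : ∃ m : ℕ, k = m := ⟨k.toNat, by omega⟩
  rw [hm] at hr1 ⊢
  exact mem_htGen_of_raises Z.hh (mul_mem (mul_mem hv hyU) (inv_mem hv)) m (by omega) hr1

theorem conj_oElt {L : List ℕ} (hL : IsWord D L) {v w : ℕ → K} : ∀ {o : List ℕ}, (∀ s ∈ o, s < D.nroots) →
    (∀ s ∈ o, w (perm C L s) = (weta C L s : K) * v s) →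
    nProd Z.hh.toChecked K L * oElt Z.hh o v * (nProd Z.hh.toChecked K L)⁻¹ = oElt Z.hh (o.map (perm C L)) w
  | [], _, _ => by rw [List.map_nil, oElt_nil, oElt_nil, mul_one, mul_inv_cancel]
  | s :: o, ho, hw => by
    have hs := ho s List.mem_cons_self
    rw [List.map_cons, oElt_cons, oElt_cons, hw s List.mem_cons_self,
      xT_eq Z.hh (Z.hh.toChecked.perm_lt hL hs), ← conj_nProd Z.hh hL hs, xT_eq Z.hh hs,
      ← conj_oElt hL (fun a ha => ho a (List.mem_cons_of_mem _ ha)) fun a ha => hw a (List.mem_cons_of_mem _ ha)]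
    group

include Z in
theorem exists_conj_vec {L : List ℕ} (hL : IsWord D L) {o : List ℕ} (ho : ∀ s ∈ o, s < D.nroots) (v : ℕ → K) :
    ∃ w : ℕ → K, ∀ s ∈ o, w (perm C L s) = (weta C L s : K) * v s := by
  classical
  refine ⟨fun a => if h : ∃ s ∈ o, perm C L s = a then (weta C L h.choose : K) * v h.choose else 0, fun s hs => ?_⟩
  have h : ∃ s' ∈ o, perm C L s' = perm C L s := ⟨s, hs, rfl⟩
  simp only [dif_pos h]
  rw [Z.hh.toChecked.perm_inj hL (ho _ h.choose_spec.1) (ho s hs) h.choose_spec.2]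

theorem crd_oElt_conj {b : GL D.Idx K} {v : GL D.Idx K} (hv : v ∈ D.posUnipotent K) {c : ℕ → Kˣ}
    (eb : b = v * torusHom D K c) {o : List ℕ} (hnd : o.Nodup) {k : ℤ} (hk : 1 ≤ k)
    (ho : ∀ s ∈ o, s ∈ posSet D ∧ ht D C s = k) (f : ℕ → K) {s : ℕ} (hs : s ∈ o) :
    cT Z.hh s (b * oElt Z.hh o f * b⁻¹) = (torusFun D c s : K) * f s := by
  have h := Z.hh.toChecked
  have hconj : ∀ {o : List ℕ}, (∀ a ∈ o, a < D.nroots) →
      torusHom D K c * oElt Z.hh o f * (torusHom D K c)⁻¹ = oElt Z.hh o fun a => (torusFun D c a : K) * f a := by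
    intro o ho
    induction o with
    | nil => rw [oElt_nil, oElt_nil, mul_one, mul_inv_cancel]
    | cons a o ih =>
      have ha := ho a List.mem_cons_self
      rw [oElt_cons, oElt_cons, xT_eq Z.hh ha, xT_eq Z.hh ha, ← h.conj_x ha,
        ← ih fun b hb => ho b (List.mem_cons_of_mem _ hb)]
      group
  have hok : ∀ a ∈ o, a ∈ htSet D C k := fun a ha => ⟨(ho a ha).1, (ho a ha).2.ge⟩
  rw [eb, show v * torusHom D K c * oElt Z.hh o f * (v * torusHom D K c)⁻¹ =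
    v * (torusHom D K c * oElt Z.hh o f * (torusHom D K c)⁻¹) * v⁻¹ by group, hconj fun a ha => (ho a ha).1.2,
    cT_eq Z.hh (ho s hs).1.2, crd_conj Z.hh (k := k) (by omega) (ho s hs).1.2 (ho s hs).2.le hv
      (oElt_mem_rootGen Z.hh (fun a ha => ⟨hok a ha, (ho a ha).1.2⟩) _),
    crd_oElt Z.hh hk (ho s hs).1 (ho s hs).2 hok hnd, if_pos hs]

variable {H : Subgroup (GL D.Idx K)}

/-- The stabiliser of the highest root subgroup in `H` is rational. -/
theorem parabolic_rat (hMH : Z.M ≤ H) (hHG : H ≤ Z.O.G) (hU : ∀ u ∈ D.posUnipotent K, u ∈ H → u ∈ Z.M)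
    (hsmall : ∀ o ∈ Z.Tb.orbs, ∀ a ∈ o, ∀ b ∈ o, b = a ∨ b = Z.P.root a ∨ b = Z.P.root (Z.P.root a))
    {h : GL D.Idx K} (hhH : h ∈ H) (hhP : h ∈ D.parabolicSubgroup K (Z.X0.JA : Set ℕ)) : h ∈ Z.M := by
  classical
  have hc := Z.hh.toChecked
  set J := Z.X0.JA with hJdef
  set P := D.parabolicSubgroup K (J : Set ℕ)
  set Q := rootGen D K (outSet D C J) with hQ
  have hQU : Q ≤ D.posUnipotent K := by
    rw [hc.posUnipotent_eq]; exact rootGen_mono fun r hr => hr.1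
  have hnorm := Z.hh.parabolic_le_normalizer (F := K) Z.X0.JA_subset
  set z := h⁻¹ * glMap D Z.S.σ h with hz
  have hzP : z ∈ P := mul_mem (inv_mem hhP) (glMap_parabolic Z.hh _ hhP)
  have horb : ∀ r, r ∈ posSet D → ∃ o ∈ Z.Tb.orbs, r ∈ o := fun r hr => List.mem_flatten.1 (Z.root_facts hr).2.2.2
  have hout_orb : ∀ {o : List ℕ}, o ∈ Z.Tb.orbs → ∀ {r}, r ∈ o → r ∈ outSet D C J → ∀ s ∈ o, s ∈ outSet D C J := by
    intro o ho r hr hro s hs
    rcases hsmall o ho r hr s hs with rfl | rfl | rfl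
    · exact hro
    · exact Z.root_out hro
    · exact Z.root_out (Z.root_out hro)
  -- `z` centralises the rational orbit elements of the radical
  have hcomm : ∀ o ∈ Z.Tb.orbs, (∀ s ∈ o, s ∈ outSet D C J) →
      z * oElt Z.hh o (fun r => (Z.Tb.e D r : K)) = oElt Z.hh o (fun r => (Z.Tb.e D r : K)) * z := by
    intro o ho hoo
    set x := oElt Z.hh o fun r => (Z.Tb.e D r : K)
    have hxM : x ∈ Z.M := Z.unit_elt_mem ho
    have hq : h * x * h⁻¹ ∈ Q := (Subgroup.mem_normalizer_iff.1 (hnorm hhP) x).1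
      (oElt_mem_rootGen Z.hh (fun a ha => ⟨hoo a ha, (hoo a ha).1.2⟩) _)
    have h1 := (mem_ratGroup.1 (hU _ (hQU hq) (mul_mem (mul_mem hhH (hMH hxM)) (inv_mem hhH))).2).2
    rw [map_mul, map_mul, map_inv, (mem_ratGroup.1 hxM.2).2] at h1
    rw [hz]
    calc h⁻¹ * glMap D Z.S.σ h * x = h⁻¹ * (glMap D Z.S.σ h * x * (glMap D Z.S.σ h)⁻¹) * glMap D Z.S.σ h := by
          group
      _ = _ := by rw [h1]; group
  -- its Weyl part keeps the heights in the radical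
  obtain ⟨u, hu, hcell⟩ := Z.hh.exists_weyl_of_mem_parabolic hzP
  obtain ⟨L, hL, eL⟩ := hc.exists_word_of_weyl (weyl_mono Z.hh.toChecked Z.X0.JA_subset hu)
  obtain ⟨b₁, hb₁, b₂, hb₂, ez⟩ := Z.hh.exists_of_mem_bcell hL (eL.symm ▸ hcell)
  set nn := nProd Z.hh.toChecked K L
  have hout : ∀ r ∈ outSet D C J, perm C L r ∈ outSet D C J := by
    intro r hr
    have := hc.outSet_weyl Z.X0.JA_subset hu (r := ⟨r, hr.1.2⟩) hr
    rwa [← eL, hc.wperm_val hL] at this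
  obtain ⟨N, hN⟩ : ∃ N, N = ht D C (top D) := ⟨_, rfl⟩
  have hup : ∀ m : ℕ, ∀ r ∈ outSet D C J, ∀ k : ℤ, 1 ≤ k → N + 1 - k ≤ m → k ≤ ht D C r →
      k ≤ ht D C (perm C L r) := by
    intro m
    induction m with
    | zero =>
      intro r hr k _ hm hk
      have := (topRoot_facts Z.hh Z.hT).2.1 r hr.1.2
      omega
    | succ m ih =>
      intro r hr k hk1 hm hk
      rcases hk.lt_or_eq with hlt | heq
      · have := ih r hr (k + 1) (by omega) (by push_cast at hm ⊢; omega) (by omega)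
        omega
      obtain ⟨o, ho, hro⟩ := horb r hr.1
      obtain ⟨-, hop, -, -⟩ := Z.orbs_facts ho
      have hoo := hout_orb ho hro hr
      have hok : ∀ s ∈ o, s ∈ posSet D ∧ ht D C s = k := fun s hs => by
        refine ⟨(hop s hs).1, ?_⟩
        rw [heq, (hop s hs).2, (hop r hro).2]
      have hnd : o.Nodup := (List.nodup_flatten.1 Z.orbs_nodup).1 _ ho
      set x := oElt Z.hh o fun a => (Z.Tb.e D a : K) with hx
      have hxk : x ∈ rootGen D K (htSet D C k) :=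
        oElt_mem_rootGen Z.hh (S := htSet D C k) (fun a ha => ⟨⟨(hok a ha).1, (hok a ha).2.ge⟩, (hok a ha).1.2⟩) _
      have hxQ : x ∈ Q := oElt_mem_rootGen Z.hh (fun a ha => ⟨hoo a ha, (hoo a ha).1.2⟩) _
      obtain ⟨v2, hv2, t2, ht2, eb2⟩ := Z.hh.mem_borel_iff.1 hb₂
      rw [Z.hh.diagonalSubgroup_eq] at ht2
      obtain ⟨c2, rfl⟩ := ht2
      set χ : ℕ → K := fun a => (torusFun D c2 a : K) * (Z.Tb.e D a : K)
      set y := (oElt Z.hh o χ)⁻¹ * (b₂ * x * b₂⁻¹)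
      have hχk : oElt Z.hh o χ ∈ rootGen D K (htSet D C k) :=
        oElt_mem_rootGen Z.hh (S := htSet D C k) (fun a ha => ⟨⟨(hok a ha).1, (hok a ha).2.ge⟩, (hok a ha).1.2⟩) _
      have hyk := Z.crd_borel_conj hb₂ hk1 hxk
      have hy : y ∈ rootGen D K (outSet D C J ∩ htSet D C (k + 1)) := by
        refine Z.hh.mem_rootGen_inter (fun a ha => ha.1) (htSet_subset _) (closedSet_outSet Z.hh)
          (closedSet_htSet hc (by omega)) (mul_mem (inv_mem
            (oElt_mem_rootGen Z.hh (fun a ha => ⟨hoo a ha, (hoo a ha).1.2⟩) _))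
            ((Subgroup.mem_normalizer_iff.1 (hnorm (Subgroup.mem_sup_left hb₂)) _).1 hxQ)) ?_
        refine Z.layer_split hk1 hyk _ hχk fun s hs hsk => ?_
        rw [cT_eq Z.hh hs.2, crd_oElt Z.hh hk1 hs hsk (fun a ha => ⟨(hok a ha).1, (hok a ha).2.ge⟩) hnd]
        split_ifs with hso
        · exact (Z.crd_oElt_conj hv2 eb2 hnd hk1 hok (fun a => (Z.Tb.e D a : K)) hso).symm
        · rw [eb2, show v2 * torusHom D K c2 * x * (v2 * torusHom D K c2)⁻¹ =
            v2 * (torusHom D K c2 * x * (torusHom D K c2)⁻¹) * v2⁻¹ by group, cT_eq Z.hh hs.2,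
            crd_conj Z.hh (k := k) (by omega) hs.2 hsk.le hv2 ((Subgroup.mem_normalizer_iff.1
              (Z.hh.diagonal_le_normalizer (htSet_lt k) (by rw [Z.hh.diagonalSubgroup_eq]; exact ⟨c2, rfl⟩)) _).1 hxk)]
          have hconj : ∀ {o : List ℕ}, (∀ a ∈ o, a < D.nroots) → ∀ f : ℕ → K,
              torusHom D K c2 * oElt Z.hh o f * (torusHom D K c2)⁻¹ =
                oElt Z.hh o fun a => (torusFun D c2 a : K) * f a := by
            intro o ho f
            induction o with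
            | nil => rw [oElt_nil, oElt_nil, mul_one, mul_inv_cancel]
            | cons a o ih =>
              have ha := ho a List.mem_cons_self
              rw [oElt_cons, oElt_cons, xT_eq Z.hh ha, xT_eq Z.hh ha, ← hc.conj_x ha,
                ← ih fun b hb => ho b (List.mem_cons_of_mem _ hb)]
              group
          rw [hx, hconj fun a ha => (hok a ha).1.2,
            crd_oElt Z.hh hk1 hs hsk (fun a ha => ⟨(hok a ha).1, (hok a ha).2.ge⟩) hnd, if_neg hso]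
      have hny : nn * y * nn⁻¹ ∈ rootGen D K (htSet D C (k + 1)) := by
        refine hc.conj_rootGen_le hL (S := outSet D C J ∩ htSet D C (k + 1)) (fun a ha => ha.2.1.2)
          (fun a ha haS t => mem_rootGen (S := htSet D C (k + 1)) (t := t) ⟨(hout a haS.1).1, ?_⟩ (coe_xGL _ _ _)) hy
        exact ih a haS.1 (k + 1) (by omega) (by push_cast at hm ⊢; omega) haS.2.2
      have hkey : nn * (b₂ * x * b₂⁻¹) * nn⁻¹ = b₁⁻¹ * x * b₁⁻¹⁻¹ := by
        have := hcomm o ho hoo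
        rw [ez, ← hx] at this
        calc _ = b₁⁻¹ * (b₁ * nn * b₂ * x) * (b₁ * nn * b₂)⁻¹ * b₁ := by group
          _ = _ := by rw [this]; group
      obtain ⟨w, hw⟩ := Z.exists_conj_vec hL (fun a ha => (hok a ha).1.2) χ
      have e2 : oElt Z.hh (o.map (perm C L)) w = b₁⁻¹ * x * b₁⁻¹⁻¹ * (nn * y * nn⁻¹)⁻¹ := by
        rw [← Z.conj_oElt hL (fun a ha => (hok a ha).1.2) hw, ← hkey]
        simp only [y, nn]
        group
      have hrhs : oElt Z.hh (o.map (perm C L)) w ∈ rootGen D K (htSet D C k) := by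
        rw [e2]
        exact mul_mem (Z.crd_borel_conj (inv_mem hb₁) hk1 hxk) (inv_mem (rootGen_mono (htSet_mono (by omega)) hny))
      by_contra hlow
      obtain ⟨s0, hs0, hmin⟩ := Finset.exists_min_image o.toFinset (fun s => ht D C (perm C L s))
        ⟨r, List.mem_toFinset.2 hro⟩
      rw [List.mem_toFinset] at hs0
      simp only [List.mem_toFinset] at hmin
      set a := perm C L s0
      have ha := hout s0 (hoo s0 hs0)
      have hj : ht D C a < k := lt_of_le_of_lt (hmin r hro) (not_le.1 hlow)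
      have hj1 : 1 ≤ ht D C a := by
        have := hc.ht_pos (r := a) ha.1.2 ha.1.1
        omega
      have hmem : a ∈ o.map (perm C L) := List.mem_map.2 ⟨s0, hs0, rfl⟩
      have h1 := crd_oElt Z.hh hj1 ha.1 rfl (o := o.map (perm C L)) (fun b hb => by
        obtain ⟨b', hb', rfl⟩ := List.mem_map.1 hb
        exact ⟨(hout b' (hoo b' hb')).1, hmin b' hb'⟩)
        (hnd.map_on fun p hp q hq e => hc.perm_inj hL (hok p hp).1.2 (hok q hq).1.2 e) w
      rw [if_pos hmem, crd_eq_zero Z.hh (k := k) (by omega) ha.1.2 hj hrhs, hw s0 hs0] at h1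
      refine mul_ne_zero ?_ (mul_ne_zero (Units.ne_zero _) ?_) h1.symm
      · rcases Chev.weta_cases (C := C) L s0 with e | e <;> simp [e]
      · rcases (Z.root_facts (hok s0 hs0).1).2.1 with e | e <;> simp [e]
  have hfix : ∀ r ∈ outSet D C J, ht D C (perm C L r) = ht D C r := by
    intro r hr
    have h0 : 1 ≤ ht D C r := by have := hc.ht_pos hr.1.2 hr.1.1; omega
    refine le_antisymm ?_ (hup _ r hr _ h0 (Int.self_le_toNat _) le_rfl)
    by_contra hgt
    set F := (Finset.range D.nroots).filter fun a => a ∈ outSet D C J ∧ ht D C r + 1 ≤ ht D C a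
    have hF : ∀ a, a ∈ F ↔ a ∈ outSet D C J ∧ ht D C r + 1 ≤ ht D C a := fun a => by
      simp only [F, Finset.mem_filter, Finset.mem_range, and_iff_right_iff_imp]
      exact fun ha => ha.1.1.2
    obtain ⟨a, ha, e⟩ := Finset.surj_on_of_inj_on_of_card_le (s := F) (t := F) (fun a _ => perm C L a)
      (fun a ha => (hF _).2 ⟨hout a ((hF a).1 ha).1, hup _ a ((hF a).1 ha).1 _ (by omega) (Int.self_le_toNat _)
        ((hF a).1 ha).2⟩)
      (fun a b ha hb e => hc.perm_inj hL ((hF a).1 ha).1.1.2 ((hF b).1 hb).1.1.2 e) le_rfl (perm C L r)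
      ((hF _).2 ⟨hout r hr, by omega⟩)
    have := hc.perm_inj hL hr.1.2 ((hF a).1 ha).1.1.2 e
    have := ((hF a).1 ha).2
    subst_vars
    omega
  have hu1 : u = 1 := by
    refine Z.hh.eq_one_of_asc_parabolic Z.X0.JA_subset hu fun j hj => ?_
    have hjr := Finset.mem_range.1 (Z.X0.JA_subset hj)
    obtain ⟨r, hr, hrp, c, hcm, h11, hcp⟩ :=
      (topRoot_facts Z.hh Z.hT).2.2.2.2.2 j hjr ((Z.X0.mem_JA hjr).1 hj)
    obtain ⟨hclt, -, -, hφ⟩ := hc.cTerms_spec (hc.simple_lt hjr) hr.2 c hcm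
    have hsp : D.simple j ∈ posSet D := ⟨hc.sroot_pos hjr, hc.simple_lt hjr⟩
    have hcpos := (hc.cTerms_pos hsp hr hcm).1
    have f1 := hfix r (Z.X0.mem_out_of_pairing hr hrp)
    have f2 := hfix c.1 (Z.X0.mem_out_of_pairing hcpos hcp)
    obtain ⟨φ', hadd, eφ⟩ := hc.isAdd_perm_ht hL
    have h1 := hφ φ' hadd
    rw [h11, eφ _ hclt, eφ _ (hc.simple_lt hjr), eφ _ hr.2, f1, f2, hφ _ hc.isAdd_ht, h11, hc.simple_ht hjr] at h1
    simp only [Nat.cast_one, one_mul] at h1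
    rw [hc.asc_iff hjr, ← eL, hc.wperm_val hL]
    by_contra hn
    have := hc.ht_neg_of_neg (not_le.1 hn)
    change ht D C (perm C L (D.simple j)) < 0 at this
    omega
  rw [hu1] at hcell
  have hzB : z ∈ D.borelSubgroup K := Z.hh.mem_bcell_one.1 hcell
  obtain ⟨hhD, hhs⟩ := Z.mem_G.1 (hHG hhH)
  obtain ⟨m, hm, hmb⟩ := Z.rep_core hhD (by rw [hhs, inv_mul_cancel]; exact one_mem _) hzB
  have hbH : m⁻¹ * h ∈ H := mul_mem (inv_mem (hMH hm)) hhH
  suffices m⁻¹ * h ∈ Z.M by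
    have := mul_mem hm this
    rwa [mul_inv_cancel_left] at this
  obtain ⟨v, hv, t, htt, eb⟩ := OrbitSys.borel_fixed_split (T := Z.T) hmb (Z.G_eq ▸ hHG hbH)
  have htd : t ∈ D.diagonalSubgroup K := htt.1
  rw [Z.hh.diagonalSubgroup_eq] at htd
  obtain ⟨c, ec⟩ := htd
  subst ec
  have hsimple : ∀ i < D.rank, (torusFun D c (D.simple i) : K) ∈ Z.S.k := by
    intro i hi
    have hip : D.simple i ∈ posSet D := ⟨hc.sroot_pos hi, hc.simple_lt hi⟩
    obtain ⟨o, ho, hio⟩ := horb _ hip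
    obtain ⟨-, hop, -, -⟩ := Z.orbs_facts ho
    have hok : ∀ s ∈ o, s ∈ posSet D ∧ ht D C s = 1 := fun s hs => ⟨(hop s hs).1, by
      rw [(hop s hs).2, ← (hop _ hio).2, hc.simple_ht hi]⟩
    have hxM := Z.unit_elt_mem ho
    have hxU : oElt Z.hh o (fun a => (Z.Tb.e D a : K)) ∈ D.posUnipotent K := by
      rw [hc.posUnipotent_eq]; exact oElt_mem_rootGen Z.hh (fun a ha => ⟨(hok a ha).1, (hok a ha).1.2⟩) _
    have hyU : (m⁻¹ * h) * oElt Z.hh o (fun a => (Z.Tb.e D a : K)) * (m⁻¹ * h)⁻¹ ∈ D.posUnipotent K := by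
      rw [eb, show v * torusHom D K c * oElt Z.hh o (fun a => (Z.Tb.e D a : K)) * (v * torusHom D K c)⁻¹ =
        v * (torusHom D K c * oElt Z.hh o (fun a => (Z.Tb.e D a : K)) * (torusHom D K c)⁻¹) * v⁻¹ by group]
      exact mul_mem (mul_mem hv.1 ((Subgroup.mem_normalizer_iff.1
        (Z.hh.diagonal_le_normalizer_posUnipotent htt.1) _).1 hxU)) (inv_mem hv.1)
    have h1 := crd_mem_of_rat Z.hh hip.2 (hU _ hyU (mul_mem (mul_mem hbH (hMH hxM)) (inv_mem hbH))).2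
    rw [← cT_eq Z.hh hip.2, Z.crd_oElt_conj hv.1 eb ((List.nodup_flatten.1 Z.orbs_nodup).1 _ ho) le_rfl hok _ hio]
      at h1
    have := div_mem h1 (intCast_mem Z.S.k (Z.Tb.e D (D.simple i)))
    rwa [mul_div_cancel_right₀] at this
    rcases (Z.root_facts hip).2.1 with e | e <;> simp [e]
  have htall : ∀ s < D.nroots, (torusFun D c s : K) ∈ Z.S.k := by
    intro s hs
    rw [← hc.chiOf_torus c hs, chiOf, Units.coe_prod]
    refine Subfield.prod_mem _ fun l hl => ?_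
    rw [Units.val_zpow_eq_zpow_val]
    exact Subfield.zpow_mem _ (hsimple l (Finset.mem_range.1 hl)) _
  have htM : torusHom D K c ∈ Z.M :=
    ⟨Z.G_eq ▸ htt.2, torus_mem_rat Z.hh Z.S (Z.hh.torusHom_mem_group c) htall⟩
  have hvM : v ∈ Z.M := by
    refine hU v hv.1 ?_
    have := mul_mem hbH (inv_mem (hMH htM))
    rwa [eb, mul_inv_cancel_right] at this
  rw [eb]
  exact mul_mem hvM htM

/-- An element of `H` moving a highest root element into the untwisted part lies in it. -/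
theorem conj_top_rat (hMH : Z.M ≤ H) (hHG : H ≤ Z.O.G) (hU : ∀ u ∈ D.posUnipotent K, u ∈ H → u ∈ Z.M)
    (hsmall : ∀ o ∈ Z.Tb.orbs, ∀ a ∈ o, ∀ b ∈ o, b = a ∨ b = Z.P.root a ∨ b = Z.P.root (Z.P.root a))
    {h : GL D.Idx K} (hhH : h ∈ H) (hy : h * Z.X0.xA 1 * h⁻¹ ∈ Z.M) : h ∈ Z.M := by
  have hhD := Z.G_le (hHG hhH)
  have e := (mem_ratGroup.1 hy.2).2
  have hxA : glMap D Z.S.σ (Z.X0.xA 1) = Z.X0.xA 1 := (mem_ratGroup.1 (Z.X0.xA_mem_rat (one_mem _))).2
  rw [map_mul, map_mul, map_inv, hxA] at e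
  have hσG : glMap D Z.S.σ h ∈ D.group K := glMap_group_le _ (Subgroup.mem_map_of_mem _ hhD)
  have hz : h⁻¹ * glMap D Z.S.σ h ∈ D.parabolicSubgroup K (Z.X0.JA : Set ℕ) := by
    refine Z.X0.conj_top_mem (mul_mem (inv_mem hhD) hσG) one_ne_zero (m := 1) ?_
    rw [mul_inv_rev, inv_inv]
    calc h⁻¹ * glMap D Z.S.σ h * Z.X0.xA 1 * ((glMap D Z.S.σ h)⁻¹ * h)
        = h⁻¹ * (glMap D Z.S.σ h * Z.X0.xA 1 * (glMap D Z.S.σ h)⁻¹) * h := by group
      _ = Z.X0.xA 1 := by rw [e]; group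
  obtain ⟨m, hm, hmP⟩ := Z.rep_parabolic (hHG hhH) hz
  have := mul_mem hm (Z.parabolic_rat hMH hHG hU hsmall (mul_mem (inv_mem (hMH hm)) hhH) hmP)
  rwa [mul_inv_cancel_left] at this

end Setting

end Cfsg.Agent.Lib.ChevTwistMax
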