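import Cfsg.Agent.Lib.ChevTwistMax.Facts
import Cfsg.Agent.Lib.ChevTwistMax.Layer
import Cfsg.Agent.Lib.ChevSubfield.Parabolic
import Cfsg.Agent.Lib.Twisted.Core.GraphSystem
import Cfsg.Agent.Lib.Twisted.Core.Group

/-!
The twisted group, its untwisted part and the coordinates of fixed elements.
-/

set_option autoImplicit false

namespace Cfsg.Agent.Lib.ChevTwistMax

open Cfsg.Lie Cfsg.Agent.Lib.Chev Cfsg.Agent.Lib.ChevSubfield Cfsg.Agent.Lib.ChevField Cfsg.Agent.Lib.Twisted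
open Cfsg.Agent.Lib.Twisted.Core

/-- A twisted group with a maximal subfield fixed by its field automorphism, and the tables. -/
structure Setting (D : ChevalleyDatum) (C : Cert) (K : Type*) [Field K] [Fintype K] (n : ℕ) where
  hh : Rooted D C
  /-- the symmetry -/
  P : GraphData
  hP : GraphData.Facts D P
  hc : chkGraph D C P = true
  /-- the field automorphism -/
  φ : K ≃+* K
  /-- the group -/
  O : Orbits hh hP hc φ n
  /-- the subfield -/
  S : SubData K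
  hσ : ∀ x, S.σ x = φ x
  /-- the tables -/
  Tb : TwTable
  hT : chkTopRoot D C = true
  hO : chkOrbs D C P Tb = true
  hV : chkVis D C P Tb = true
  hN : chkNode D P = true

namespace Setting

variable {D : ChevalleyDatum} {C : Cert} {K : Type*} [Field K] [Fintype K] {n : ℕ} (Z : Setting D C K n)

/-- The endomorphism. -/
noncomputable def T : Twist D C K := graphTwist Z.hh Z.hP Z.hc Z.φ

/-- The untwisted part. -/
def M : Subgroup (GL D.Idx K) := Z.O.G ⊓ ratGroup D Z.S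

theorem G_eq : Z.O.G = Z.T.fixedGroup := Z.O.system.eq_fixedGroup

theorem mem_G {g : GL D.Idx K} : g ∈ Z.O.G ↔ g ∈ D.group K ∧ Z.T.sig g = g := by
  rw [Z.G_eq, Twist.mem_fixedGroup]

theorem G_le : Z.O.G ≤ D.group K := fun _ hg => (Z.mem_G.1 hg).1

theorem sig_x' {r : ℕ} (hr : r < D.nroots) (t : K) :
    Z.T.sig (xGL Z.hh.toChecked K hr t) =
      xGL Z.hh.toChecked K (Z.hP.root_lt r hr) ((Z.P.sign r : K) * Z.φ t) := Z.T.sig_x hr t

theorem k_iff {x : K} : x ∈ Z.S.k ↔ Z.φ x = x := by rw [← Z.hσ, Z.S.fix]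

theorem phi_e (m : ℤ) : Z.φ (m : K) = m := map_intCast Z.φ m

theorem ht_root {r : ℕ} (hr : r < D.nroots) : ht D C (Z.P.root r) = ht D C r := by
  have h := Z.hO
  simp only [chkOrbs, Bool.and_eq_true, allN_iff, decide_eq_true_eq] at h
  rw [← htB_eq, ← htB_eq]
  exact h.1.1.1.1 r hr

theorem root_top : Z.P.root (top D) = top D := by
  have h := Z.hO
  simp only [chkOrbs, Bool.and_eq_true, natBeq_iff] at h
  exact h.1.1.1.2

theorem root_facts {r : ℕ} (hr : r ∈ posSet D) :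
    (Z.P.root r = r → Z.P.sign r = 1) ∧ (Z.Tb.e D r = 1 ∨ Z.Tb.e D r = -1) ∧
      Z.Tb.e D (Z.P.root r) = Z.P.sign r * Z.Tb.e D r ∧ r ∈ Z.Tb.orbs.flatten := by
  have h := Z.hO
  simp only [chkOrbs, Bool.and_eq_true, allN_iff, Bool.or_eq_true, Bool.not_eq_true', natBeq_eq,
    decide_eq_false_iff_not, decide_eq_true_eq, List.contains_iff_mem] at h
  obtain ⟨hr1, hr2⟩ := hr
  have := Z.hh.toChecked.two_mul_half
  have h2 := h.1.1.2 (r - D.nroots / 2) (by omega)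
  rw [show D.nroots / 2 + (r - D.nroots / 2) = r by omega] at h2
  exact ⟨fun e => h2.1.1.1.resolve_left (fun hn => hn e), h2.1.1.2, h2.1.2, h2.2⟩

theorem orbs_facts {o : List ℕ} (ho : o ∈ Z.Tb.orbs) :
    o ≠ [] ∧ (∀ r ∈ o, r ∈ posSet D ∧ ht D C r = ht D C (o.headD 0)) ∧ (o.map Z.P.root).Perm o ∧
      ∀ r ∈ o, ∀ s ∈ o, r ≠ s → cTerms C r s = [] ∧ cTerms C s r = [] := by
  have h := Z.hO
  simp only [chkOrbs, Bool.and_eq_true, List.all_eq_true, Bool.or_eq_true, decide_eq_true_eq, Nat.ble_eq,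
    Nat.blt_eq, natBeq_eq, List.isEmpty_iff, Bool.not_eq_true'] at h
  obtain ⟨⟨⟨h1, h2⟩, h3⟩, h4⟩ := h.2 o ho
  refine ⟨fun e => by simp [e] at h1, fun r hr => ?_, h3, fun r hr s hs hne => (h4 r hr s hs).resolve_left hne⟩
  obtain ⟨⟨a, b⟩, c⟩ := h2 r hr
  exact ⟨⟨a, b⟩, by rw [← htB_eq, ← htB_eq, c]⟩

theorem root_pos {r : ℕ} (hr : r ∈ posSet D) : Z.P.root r ∈ posSet D :=
  ⟨(Z.T.rho_pos ⟨r, hr.2⟩).2 hr.1, Z.hP.root_lt r hr.2⟩

theorem orbs_nodup : Z.Tb.orbs.flatten.Nodup := by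
  have h := Z.hO
  simp only [chkOrbs, Bool.and_eq_true, decide_eq_true_eq] at h
  exact h.1.2

theorem sig_layer {k : ℤ} {g : GL D.Idx K} (hg : g ∈ rootGen D K (htSet D C k)) :
    Z.T.sig g ∈ rootGen D K (htSet D C k) := by
  refine Z.T.sig_rootGen (S' := htSet D C k) (htSet_lt k) (fun r hr => ⟨Z.root_pos hr.1, ?_⟩) hg
  show k ≤ ht D C (Z.P.root r)
  rw [Z.ht_root r.2]
  exact hr.2

/-- The endomorphism on the coordinates of lowest height. -/
theorem crd_sig {k : ℤ} (hk : 1 ≤ k) {r : ℕ} (hr : r ∈ posSet D) (hrk : ht D C r = k) {g : GL D.Idx K}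
    (hg : g ∈ rootGen D K (htSet D C k)) :
    crd Z.hh (Z.root_pos hr).2 (Z.T.sig g) = (Z.P.sign r : K) * Z.φ (crd Z.hh hr.2 g) := by
  have hrk' : ht D C (Z.P.root r) = k := by rw [Z.ht_root hr.2]; exact hrk
  have hG : ∀ {x : GL D.Idx K}, x ∈ rootGen D K (htSet D C k) → x ∈ D.group K := fun hx =>
    rootGen_le_group (htSet_lt k) hx
  induction hg using Subgroup.closure_induction with
  | mem x hx =>
    obtain ⟨s, t, hs, e⟩ := hx
    have eg : x = xGL Z.hh.toChecked K hs.1.2 t := Units.ext e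
    subst eg
    rw [Z.sig_x', crd_x Z.hh _ (Z.root_pos hr) (Z.root_pos hs.1) (by rw [hrk', Z.ht_root hs.1.2]; exact hs.2),
      crd_x Z.hh hr.2 hr hs.1 (hrk.le.trans hs.2)]
    by_cases e : s = r
    · subst e; rw [if_pos rfl, if_pos rfl]
    · rw [if_neg e, if_neg fun e' => e (Z.hP.root_inj _ _ hs.1.2 hr.2 e'), map_zero, mul_zero]
  | one => rw [Z.T.sig_one, crd_one Z.hh, crd_one Z.hh, map_zero, mul_zero]
  | mul x y hx hy ihx ihy =>
    rw [Z.T.sig_mul (hG hx) (hG hy), crd_mul Z.hh (k := k) (by omega) _ (by omega) (Z.sig_layer hx) (Z.sig_layer hy),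
      crd_mul Z.hh (k := k) (by omega) hr.2 (by omega) hx hy, ihx, ihy, map_add, mul_add]
  | inv x hx ihx =>
    rw [Z.T.sig_inv (hG hx), crd_inv Z.hh (k := k) (by omega) _ (by omega) (Z.sig_layer hx),
      crd_inv Z.hh (k := k) (by omega) hr.2 (by omega) hx, ihx, map_neg, mul_neg]

theorem crd_fixed {k : ℤ} (hk : 1 ≤ k) {r : ℕ} (hr : r ∈ posSet D) (hrk : ht D C r = k) {g : GL D.Idx K}
    (hg : g ∈ rootGen D K (htSet D C k)) (hgG : g ∈ Z.O.G) :
    cT Z.hh (Z.P.root r) g = (Z.P.sign r : K) * Z.φ (cT Z.hh r g) := by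
  have := Z.crd_sig hk hr hrk hg
  rw [(Z.mem_G.1 hgG).2] at this
  rw [cT_eq Z.hh (Z.root_pos hr).2, cT_eq Z.hh hr.2, this]

theorem crd_rat {k : ℤ} (hk : 1 ≤ k) {r : ℕ} (hr : r ∈ posSet D) (hrk : ht D C r = k) (hfix : Z.P.root r = r)
    {g : GL D.Idx K} (hg : g ∈ rootGen D K (htSet D C k)) (hgG : g ∈ Z.O.G) : cT Z.hh r g ∈ Z.S.k := by
  have := Z.crd_fixed hk hr hrk hg hgG
  rw [hfix, (Z.root_facts hr).1 hfix, Int.cast_one, one_mul] at this
  exact Z.k_iff.2 this.symm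

/-- The signs give rational fixed vectors. -/
theorem e_compat {r : ℕ} (hr : r ∈ posSet D) :
    (Z.Tb.e D (Z.P.root r) : K) = (Z.P.sign r : K) * Z.φ (Z.Tb.e D r : K) := by
  rw [(Z.root_facts hr).2.2.1, Z.phi_e, Int.cast_mul]

theorem xT_sig {r : ℕ} (hr : r < D.nroots) (t : K) :
    Z.T.sig (xT Z.hh r t) = xT Z.hh (Z.P.root r) ((Z.P.sign r : K) * Z.φ t) := by
  rw [xT_eq Z.hh hr, xT_eq Z.hh (Z.hP.root_lt r hr), Z.sig_x']

theorem oElt_group {o : List ℕ} (v : ℕ → K) (ho : ∀ r ∈ o, r < D.nroots) : oElt Z.hh o v ∈ D.group K :=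
  oElt_mem Z.hh fun r hr => by rw [xT_eq Z.hh (ho r hr)]; exact Z.hh.toChecked.xGL_mem_group _ _

theorem sig_oElt {v w : ℕ → K} : ∀ {o : List ℕ}, (∀ r ∈ o, r < D.nroots) →
    (∀ r ∈ o, w (Z.P.root r) = (Z.P.sign r : K) * Z.φ (v r)) →
    Z.T.sig (oElt Z.hh o v) = oElt Z.hh (o.map Z.P.root) w
  | [], _, _ => by rw [List.map_nil, oElt_nil, oElt_nil]; exact Z.T.sig_one
  | r :: o, ho, hv => by
    have hr := ho r List.mem_cons_self
    rw [List.map_cons, oElt_cons, oElt_cons, hv r List.mem_cons_self, Z.T.sig_mul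
      (by rw [xT_eq Z.hh hr]; exact Z.hh.toChecked.xGL_mem_group _ _)
      (Z.oElt_group v fun a ha => ho a (List.mem_cons_of_mem _ ha)), Z.xT_sig hr,
      sig_oElt (fun a ha => ho a (List.mem_cons_of_mem _ ha)) fun a ha => hv a (List.mem_cons_of_mem _ ha)]

/-- A compatible vector on an orbit gives an element of the group. -/
theorem oElt_mem_G {o : List ℕ} (ho : ∀ r ∈ o, r < D.nroots) (hperm : (o.map Z.P.root).Perm o)
    (hcomm : ∀ r ∈ o, ∀ s ∈ o, r ≠ s → cTerms C r s = [] ∧ cTerms C s r = []) (hpos : ∀ r ∈ o, r ∈ posSet D)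
    {v : ℕ → K} (hv : ∀ r ∈ o, v (Z.P.root r) = (Z.P.sign r : K) * Z.φ (v r)) : oElt Z.hh o v ∈ Z.O.G := by
  refine Z.mem_G.2 ⟨Z.oElt_group v ho, ?_⟩
  rw [Z.sig_oElt ho hv, oElt, oElt]
  refine List.Perm.prod_eq' (hperm.map _) (List.pairwise_map.2 (List.pairwise_of_forall_mem_list fun a ha b hb => ?_))
  have ha' := hperm.subset ha
  have hb' := hperm.subset hb
  show Commute _ _
  by_cases e : a = b
  · subst e; exact Commute.refl _
  rw [xT_eq Z.hh (ho a ha'), xT_eq Z.hh (ho b hb')]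
  exact commute_of_nil Z.hh (ho b hb') (ho a ha') e
    (Checked.ne_ng_of_pos (hpos b hb') (hpos a ha') Z.hh.toChecked.two_mul_half) (hcomm a ha' b hb' e).2 _ _

theorem orb_elt_mem {o : List ℕ} (ho : o ∈ Z.Tb.orbs) {v : ℕ → K}
    (hv : ∀ r ∈ o, v (Z.P.root r) = (Z.P.sign r : K) * Z.φ (v r)) : oElt Z.hh o v ∈ Z.O.G := by
  obtain ⟨-, h1, h2, h3⟩ := Z.orbs_facts ho
  exact Z.oElt_mem_G (fun r hr => (h1 r hr).1.2) h2 h3 (fun r hr => (h1 r hr).1) hv

theorem oElt_rat {o : List ℕ} (ho : ∀ r ∈ o, r < D.nroots) {v : ℕ → K} (hv : ∀ r ∈ o, v r ∈ Z.S.k) :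
    oElt Z.hh o v ∈ ratGroup D Z.S :=
  oElt_mem Z.hh fun r hr => by rw [xT_eq Z.hh (ho r hr)]; exact xGL_mem_rat Z.hh Z.S _ (hv r hr)

theorem unit_elt_mem {o : List ℕ} (ho : o ∈ Z.Tb.orbs) : oElt Z.hh o (fun r => (Z.Tb.e D r : K)) ∈ Z.M := by
  obtain ⟨-, h1, -, -⟩ := Z.orbs_facts ho
  exact ⟨Z.orb_elt_mem ho fun r hr => Z.e_compat (h1 r hr).1,
    Z.oElt_rat (fun r hr => (h1 r hr).1.2) fun r _ => intCast_mem _ _⟩

/-- A fixed root element with a rational parameter. -/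
theorem xA_mem {t : K} (ht' : t ∈ Z.S.k) {r : ℕ} (hr : r ∈ posSet D) (hfix : Z.P.root r = r) :
    xGL Z.hh.toChecked K hr.2 t ∈ Z.M := by
  refine ⟨Z.mem_G.2 ⟨Z.hh.toChecked.xGL_mem_group _ _, ?_⟩, xGL_mem_rat Z.hh Z.S _ ht'⟩
  rw [Z.sig_x', (Z.root_facts hr).1 hfix, Int.cast_one, one_mul, Z.k_iff.1 ht']
  exact Z.hh.toChecked.xGL_congr hfix _ _ _

end Setting

end Cfsg.Agent.Lib.ChevTwistMax
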