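import Cfsg.Agent.Lib.ChevTwistMax.Parabolic
import Cfsg.Agent.Lib.ChevTwistMax.OrbitHom

/-!
An element of the highest larger orbit outside the untwisted part gives everything.
-/

set_option autoImplicit false

namespace Cfsg.Agent.Lib.ChevTwistMax

open Cfsg.Lie Cfsg.Agent.Lib.Chev Cfsg.Agent.Lib.ChevSubfield Cfsg.Agent.Lib.ChevField Cfsg.Agent.Lib.Twisted
open Cfsg.Agent.Lib.Twisted.Core

namespace Setting

variable {D : ChevalleyDatum} {C : Cert} {K : Type*} [Field K] [Fintype K] {n : ℕ} (Z : Setting D C K n)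

/-- Compatible parameters on an orbit. -/
def Compat (j : Fin n) (t : ℕ → K) : Prop := ∀ i ∈ Z.O.orb j, t (Z.P.node i) = Z.φ (t i)

theorem compat_value {j : Fin n} {t : ℕ → K} (ht : Z.Compat j t) :
    ∀ {p : ℕ}, p < (Z.O.orb j).length →
      t ((Z.O.orb j).getD p 0) = (Z.φ.toRingHom ^ p) (t ((Z.O.orb j).getD 0 0)) := by
  intro p hp
  induction p with
  | zero => rfl
  | succ p ih =>
    have hp' : p < (Z.O.orb j).length := by omega
    have e := (Z.O.facts j).2.2.2.1 p hp'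
    rw [Nat.mod_eq_of_lt hp] at e
    rw [← e, ht _ (by rw [List.getD_eq_getElem _ _ hp']; exact List.getElem_mem _), ih hp', RingHom.coe_pow,
      RingHom.coe_pow, Function.iterate_succ_apply']
    rfl

/-- The field embedding of the orbit member `i`. -/
def tau (j : Fin n) (i : ℕ) : K →+* K := Z.φ.toRingHom ^ (Z.O.orb j).idxOf i

theorem tau_getD (j : Fin n) {p : ℕ} (hp : p < (Z.O.orb j).length) :
    Z.tau j ((Z.O.orb j).getD p 0) = Z.φ.toRingHom ^ p := by
  rw [tau, List.getD_eq_getElem _ _ hp, (Z.O.facts j).2.2.2.2.1.idxOf_getElem]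

theorem tau_compat {j : Fin n} (hper : ∀ a, Z.φ^[(Z.O.orb j).length] a = a) (a : K) :
    Z.Compat j fun i => Z.tau j i a := by
  intro i hi
  obtain ⟨p, hp, rfl⟩ := List.mem_iff_getElem.1 hi
  have e := (Z.O.facts j).2.2.2.1 p hp
  have hm : (p + 1) % (Z.O.orb j).length < (Z.O.orb j).length := Nat.mod_lt _ (by omega)
  rw [List.getD_eq_getElem _ _ hp] at e
  rw [e]
  show Z.tau j _ a = Z.φ (Z.tau j _ a)
  rw [Z.tau_getD j hm, ← List.getD_eq_getElem _ 0 hp, Z.tau_getD j hp, RingHom.coe_pow, RingHom.coe_pow]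
  show Z.φ^[_] a = Z.φ (Z.φ^[p] a)
  rw [← Function.iterate_succ_apply' Z.φ]
  rcases (Nat.lt_or_ge (p + 1) (Z.O.orb j).length) with h | h
  · rw [Nat.mod_eq_of_lt h]
  · rw [show p + 1 = (Z.O.orb j).length by omega, Nat.mod_self, Nat.succ_eq_add_one,
      show p + 1 = (Z.O.orb j).length by omega, hper]
    rfl

theorem tau_rat (j : Fin n) (i : ℕ) {a : K} (ha : a ∈ Z.S.k) : Z.tau j i a = a := by
  rw [tau, RingHom.coe_pow]
  exact Function.iterate_fixed (Z.k_iff.1 ha) _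

theorem orb_elts_M {j : Fin n} {t : ℕ → K} (ht : Z.Compat j t) (hk : ∀ i ∈ Z.O.orb j, t i ∈ Z.S.k) :
    orbElt Z.hh.toChecked K (Z.O.orb j) (Z.O.isWordOrb j) t ∈ Z.M ∧
      orbEltNeg Z.hh.toChecked K (Z.O.orb j) (Z.O.isWordOrb j) t ∈ Z.M := by
  have h1 := Z.O.pos_mem j (Z.O.isWordOrb j) t ht
  have h2 := Z.O.neg_mem j (Z.O.isWordOrb j) t ht
  obtain ⟨e1, e2⟩ := glMap_orbElt Z.hh.toChecked Z.S.σ (Z.O.isWordOrb j) t
  have key : ∀ {L : List ℕ} (hL : IsWord D L), (∀ i ∈ L, i ∈ Z.O.orb j) →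
      orbElt Z.hh.toChecked K L hL (fun i => Z.S.σ (t i)) = orbElt Z.hh.toChecked K L hL t ∧
      orbEltNeg Z.hh.toChecked K L hL (fun i => Z.S.σ (t i)) = orbEltNeg Z.hh.toChecked K L hL t := by
    intro L
    induction L with
    | nil => intro _ _; exact ⟨rfl, rfl⟩
    | cons i L ih =>
      intro hL hs
      obtain ⟨a, b⟩ := ih hL.cons.2 fun x hx => hs x (List.mem_cons_of_mem _ hx)
      simp only [orbElt, orbEltNeg, a, b, (Z.S.fix _).2 (hk i (hs i List.mem_cons_self)), and_self]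
  obtain ⟨a, b⟩ := key (Z.O.isWordOrb j) fun _ h => h
  exact ⟨⟨h1, Z.G_le h1, e1.trans a⟩, ⟨h2, Z.G_le h2, e2.trans b⟩⟩

/-- The products over orbits of fundamental roots are oriented orbit elements. -/
theorem oElt_orb : ∀ {L : List ℕ} (hL : IsWord D L) (w : ℕ → K),
    oElt Z.hh (L.map D.simple) w = orbElt Z.hh.toChecked K L hL (fun i => w (D.simple i))
  | [], _, w => oElt_nil _ w
  | i :: L, hL, w => by
    rw [List.map_cons, oElt_cons, oElt_orb hL.cons.2 w, xT_eq Z.hh (Z.hh.toChecked.simple_lt hL.cons.1)]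
    rfl

theorem oElt_perm {o : List ℕ} {L : List ℕ} (hL : IsWord D L)
    (ho : L.Pairwise (fun a b => chkOrth D C b a = true ∧ chkOrth D C a b = true))
    (hp : o.Perm (L.map D.simple)) (w : ℕ → K) : oElt Z.hh o w = oElt Z.hh (L.map D.simple) w := by
  rw [oElt, oElt]
  refine (List.Perm.prod_eq' (hp.symm.map _) ?_).symm
  rw [List.pairwise_map, List.pairwise_map]
  refine ho.imp_of_mem fun {a b} ha hb hab => ?_
  rw [xT_eq Z.hh (Z.hh.toChecked.simple_lt (hL a ha)), xT_eq Z.hh (Z.hh.toChecked.simple_lt (hL b hb))]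
  exact (commute_orth Z.hh.toChecked (F := K) (hL a ha) (hL b hb) hab.2 _ _).1

theorem nProd_orbs_mem (js : List (Fin n)) :
    nProd Z.hh.toChecked K (js.flatMap Z.O.orb) ∈ Z.O.G := by
  induction js with
  | nil => simp [nProd, one_mem]
  | cons j js ih =>
    rw [List.flatMap_cons, nProd_append]
    refine mul_mem ?_ ih
    rw [← orbN_one Z.hh.toChecked (Z.O.isWordOrb j)]
    exact Z.O.orbN_mem j _ fun i _ => by rw [map_one]

variable {H : Subgroup (GL D.Idx K)}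

/-- A non-rational element on the highest larger orbit gives the whole group. -/
theorem eq_G_of_star (p : ℕ) [Fact p.Prime] [CharP K p] (hs : chkEtaSigns D C = true)
    (hMH : Z.M ≤ H) (hHG : H ≤ Z.O.G) (hW : chkWords D C Z.Tb = true)
    (hwords : ∀ j, (Z.O.orb j).length = 1 ∨
      ∃ w ∈ Z.Tb.words, w.2 = Z.O.orb j ∧ ∃ js : List (Fin n), w.1 = js.flatMap Z.O.orb)
    (hper : ∀ j, (Z.O.orb j).length = 1 ∨ ∀ a, Z.φ^[(Z.O.orb j).length] a = a)
    (hgen : ∀ U : Subgroup (GL D.Idx K), (∀ j t, Z.Compat j t →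
      orbElt Z.hh.toChecked K (Z.O.orb j) (Z.O.isWordOrb j) t ∈ U ∧
        orbEltNeg Z.hh.toChecked K (Z.O.orb j) (Z.O.isWordOrb j) t ∈ U) → Z.O.G ≤ U)
    {v : ℕ → K} (hv : oElt Z.hh Z.Tb.star v ∈ H) (hvn : oElt Z.hh Z.Tb.star v ∉ ratGroup D Z.S) :
    H = Z.O.G := by
  classical
  refine le_antisymm hHG (hgen H fun j t ht => ?_)
  have hc := Z.hh.toChecked
  by_cases h1 : (Z.O.orb j).length = 1
  · refine ⟨hMH (Z.orb_elts_M ht ?_).1, hMH (Z.orb_elts_M ht ?_).2⟩ <;>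
    · intro i hi
      obtain ⟨a, ha⟩ := List.length_eq_one_iff.1 h1
      have hn : Z.P.node i = i := by
        have := Z.O.node_mem hi
        rw [ha, List.mem_singleton] at this hi
        rw [this, hi]
      have := ht i hi
      rw [hn] at this
      exact Z.k_iff.2 this.symm
  obtain ⟨w, hw, hw2, js, hjs⟩ := (hwords j).resolve_left h1
  have hperj := (hper j).resolve_left h1
  simp only [chkWords, Bool.and_eq_true, List.all_eq_true, Nat.blt_eq, decide_eq_true_eq] at hW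
  obtain ⟨⟨hw1w, -⟩, hperm⟩ := hW w hw
  have hw1 : IsWord D w.1 := hw1w
  rw [hw2] at hperm
  obtain ⟨-, hsp, -, -⟩ := Z.orbs_facts Z.star_mem
  have hsn : Z.Tb.star.Nodup := (List.nodup_flatten.1 Z.orbs_nodup).1 _ Z.star_mem
  have hnG : nProd Z.hh.toChecked K w.1 ∈ Z.M :=
    ⟨hjs ▸ Z.nProd_orbs_mem js, nProd_mem_rat Z.hh Z.S hw1⟩
  obtain ⟨w', hw'⟩ := Z.exists_conj_vec hw1 (fun a ha => (hsp a ha).1.2) v
  -- move it to the orbit of fundamental roots
  have hX := mul_mem (mul_mem (hMH hnG) hv) (inv_mem (hMH hnG))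
  rw [Z.conj_oElt hw1 (fun a ha => (hsp a ha).1.2) hw', Z.oElt_perm (Z.O.isWordOrb j)
    (Z.O.facts j).2.2.2.2.2.1 hperm, Z.oElt_orb (Z.O.isWordOrb j)] at hX
  set u : ℕ → K := fun i => w' (D.simple i)
  have hu : Z.Compat j u := (Z.O.orbElt_fixed_iff j u).1 (Z.O.G_le (hHG hX))
  obtain ⟨i₀, hi₀, hu₀⟩ : ∃ i ∈ Z.O.orb j, u i ∉ Z.S.k := by
    by_contra hcon
    push Not at hcon
    refine hvn (Z.oElt_rat (fun a ha => (hsp a ha).1.2) fun a ha => ?_)
    obtain ⟨i, hi, e⟩ := List.mem_map.1 (hperm.subset (List.mem_map.2 ⟨a, ha, rfl⟩))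
    have h2 := hw' a ha
    rw [← e] at h2
    have h3 : v a = (weta C w.1 a : K) * w' (D.simple i) := by
      rw [h2, ← mul_assoc, ← Int.cast_mul]
      rcases Chev.weta_cases (C := C) w.1 a with e | e <;> simp [e]
    rw [h3]
    exact mul_mem (intCast_mem _ _) (hcon i hi)
  set a₀ := u ((Z.O.orb j).getD 0 0)
  have ha₀ : a₀ ∉ Z.S.k := fun hmem => hu₀ (by
    obtain ⟨p, hp, rfl⟩ := List.mem_iff_getElem.1 hi₀
    rw [← List.getD_eq_getElem _ 0 hp, Z.compat_value hu hp, RingHom.coe_pow]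
    show Z.φ^[p] a₀ ∈ _
    rwa [Function.iterate_fixed (Z.k_iff.1 hmem)])
  have hval : ∀ {t : ℕ → K}, Z.Compat j t → ∀ i ∈ Z.O.orb j, Z.tau j i (t ((Z.O.orb j).getD 0 0)) = t i := by
    intro t ht i hi
    obtain ⟨p, hp, rfl⟩ := List.mem_iff_getElem.1 hi
    rw [← List.getD_eq_getElem _ 0 hp, Z.tau_getD j hp, Z.compat_value ht hp]
  obtain ⟨ψ, hψ, -⟩ := exists_orbHom Z.hh hs (Z.tau j) (Z.O.isWordOrb j) (Z.O.facts j).2.2.2.2.2.1
  have htop : H.comap ψ = ⊤ := by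
    refine eq_top_of_upper (k := Z.S.k) p Z.S.max (fun a ha => ?_) (fun a ha => ?_) ha₀ ?_ <;>
      rw [Subgroup.mem_comap]
    · rw [(hψ a).1]
      exact hMH (Z.orb_elts_M (Z.tau_compat hperj a) fun i _ => by rw [Z.tau_rat j i ha]; exact ha).1
    · rw [(hψ a).2]
      exact hMH (Z.orb_elts_M (Z.tau_compat hperj a) fun i _ => by rw [Z.tau_rat j i ha]; exact ha).2
    · rw [(hψ a₀).1, orbElt_congr hc _ (hval hu)]
      exact hX
  have hneg : ∀ {L : List ℕ} (hL : IsWord D L) {f g : ℕ → K}, (∀ i ∈ L, f i = g i) →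
      orbEltNeg hc K L hL f = orbEltNeg hc K L hL g := by
    intro L
    induction L with
    | nil => intros; rfl
    | cons i L ih =>
      intro hL f g e
      simp only [orbEltNeg, e i List.mem_cons_self, ih hL.cons.2 fun a ha => e a (List.mem_cons_of_mem _ ha)]
  have hall : ∀ g, ψ g ∈ H := fun g => Subgroup.mem_comap.1 (htop.symm ▸ Subgroup.mem_top g)
  constructor
  · rw [← orbElt_congr hc _ (hval ht), ← (hψ _).1]
    exact hall _
  · rw [← hneg _ (hval ht), ← (hψ _).2]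
    exact hall _

end Setting

end Cfsg.Agent.Lib.ChevTwistMax
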