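import Cfsg.Agent.Lib.ChevTwistMax.Main
import Cfsg.Agent.Lib.ChevSubfield.Main
import Cfsg.Agent.Lib.Twisted.Core.D4Group
import Cfsg.Agent.Lib.Twisted.Core.E6Group

/-!
The groups `³D₄(q)` and `²E₆(q)`.
-/

set_option autoImplicit false
set_option maxRecDepth 8000

namespace Cfsg.Agent.Lib.ChevTwistMax

open Cfsg.Lie Cfsg.Agent.Lib.Chev Cfsg.Agent.Lib.ChevSubfield Cfsg.Agent.Lib.ChevField Cfsg.Agent.Lib.Twisted
open Cfsg.Agent.Lib.Twisted.Core

/-- The tables for `³D₄`. -/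
def d4Table : TwTable :=
  ⟨[[12, 18, 13], [14], [15, 19, 16], [17, 20, 21], [22], [23]], [17, 20, 21],
    [(12, [14], 15), (15, [12, 18, 13], 17)], [1, 1, 1, 1, 1, 1, 1, -1, -1, -1, 1, 1],
    [([1, 0, 2, 3], [0, 2, 3])]⟩

/-- The tables for `²E₆`. -/
def e6Table : TwTable :=
  ⟨[[56, 36], [42, 37], [57, 38], [39], [43, 40], [58, 41], [44], [59, 45], [46], [47], [50, 48], [61, 49],
      [51], [62, 52], [53], [64, 54], [67, 55], [60], [63], [65], [68, 66], [69], [70], [71]], [68, 66],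
    [(36, [42, 37], 38), (37, [39], 40), (38, [39], 41), (40, [46], 48), (41, [46], 49), (45, [46], 52),
      (48, [56, 36], 49), (49, [42, 37], 52), (52, [39], 54), (54, [42, 37], 55), (55, [56, 36], 66)],
    [1, 1, -1, 1, -1, 1, 1, 1, 1, -1, 1, 1, 1, -1, 1, 1, -1, 1, -1, -1, 1, 1, 1, 1, 1, 1, 1, 1, 1, 1, 1, 1,
      1, 1, 1, 1],
    [([0, 5, 3, 2, 4, 1, 3, 2, 4, 0, 5], [2, 4]), ([2, 4, 3, 2, 4, 1, 3, 2, 4, 0, 5], [0, 5])]⟩

theorem d4_checks : chkOrbs chevD4 D4.cert d4Graph d4Table = true ∧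
    chkVis chevD4 D4.cert d4Graph d4Table = true ∧ chkNode chevD4 d4Graph = true ∧
    chkWords chevD4 D4.cert d4Table = true ∧ chkSmall d4Graph d4Table = true ∧
    chkFixLine chevD4 D4.cert d4Graph 1 = true := by decide +kernel

theorem e6_checks : chkOrbs chevE6 E6.cert e6Graph e6Table = true ∧
    chkVis chevE6 E6.cert e6Graph e6Table = true ∧ chkNode chevE6 e6Graph = true ∧
    chkWords chevE6 E6.cert e6Table = true ∧ chkSmall e6Graph e6Table = true ∧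
    chkFixLine chevE6 E6.cert e6Graph 1 = true := by decide +kernel

variable {K : Type*} [Field K] [Fintype K] (p : ℕ) [Fact p.Prime] [CharP K p]

theorem exists_field (a r : ℕ) (ha : 1 ≤ a) (hr : r.Prime) (hK : Fintype.card K = (p ^ a) ^ r) (φ : K ≃+* K)
    (hφ : ∀ t, φ t = t ^ (p ^ a)) :
    ∃ S : SubData K, (∀ x, S.σ x = φ x) ∧ ∀ x, x ∈ S.k ↔ x ^ (p ^ a) = x := by
  obtain ⟨S, hS⟩ := exists_subData p a r ha hr hK
  exact ⟨⟨S.k, φ.toRingHom, fun x => by rw [hS]; show φ x = x ↔ _; rw [hφ], S.ne_top, S.max⟩,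
    fun _ => rfl, hS⟩

/-- The untwisted part of `³D₄(q)` is maximal. -/
theorem d4_maximal (a : ℕ) (ha : 1 ≤ a) (hK : Fintype.card K = (p ^ a) ^ 3) (M : Subgroup (GL chevD4.Idx K))
    (hM : ∀ g : GL chevD4.Idx K, g ∈ M ↔ g ∈ twistedD4 K (p ^ a) ∧
      ∀ i j : chevD4.Idx, ((g : Matrix chevD4.Idx chevD4.Idx K) i j) ^ (p ^ a) =
        (g : Matrix chevD4.Idx chevD4.Idx K) i j) :
    M ≠ twistedD4 K (p ^ a) ∧ ∀ H : Subgroup (GL chevD4.Idx K), M ≤ H → H ≤ twistedD4 K (p ^ a) →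
      H = M ∨ H = twistedD4 K (p ^ a) := by
  have hq : IsPrimePow (p ^ a) := (Fact.out : p.Prime).isPrimePow.pow (by omega)
  obtain ⟨φ, hφ, h3⟩ := d4_powAut hq hK
  obtain ⟨S, hσ, hS⟩ := exists_field p a 3 ha Nat.prime_three hK φ hφ
  obtain ⟨cO, cV, cN, cW, cS, cL⟩ := d4_checks
  let Z : Setting chevD4 D4.cert K 2 :=
    ⟨rootedD4, d4Graph, d4Graph_facts, chkGraph_D4, φ, d4Orbits hq hK φ hφ h3, S, hσ, d4Table, topRoot_D4, cO, cV, cN⟩
  have hZM : M = Z.M := by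
    ext g
    rw [hM g]
    show _ ↔ g ∈ twistedD4 K (p ^ a) ∧ g ∈ ratGroup chevD4 S
    rw [ratGroup_iff_entries]
    simp only [hS]
    exact ⟨fun h => ⟨h.1, ((d4Twist φ).mem_fixedGroup.1 (d4_le_fixed φ hφ h3 h.1)).1, h.2⟩, fun h => ⟨h.1, h.2.2⟩⟩
  have hlong : (Z.O.orb 1).length = 3 := rfl
  have hper1 : ∀ x, Z.φ^[(Z.O.orb 1).length] x = x := fun x => by rw [hlong]; exact h3 x
  rw [hZM]
  refine ⟨Z.ne_G ⟨1, by rw [hlong]; norm_num, hper1⟩, fun H hMH hHG => ?_⟩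
  refine Z.maximal p etaSigns_D4 hMH hHG cW cS long_D4 cL ⟨0, rfl⟩ (fun j => ?_) (fun j => ?_) (fun U hU => ?_)
  · fin_cases j
    · exact Or.inl rfl
    · exact Or.inr ⟨([1, 0, 2, 3], [0, 2, 3]), List.mem_singleton_self _, rfl, [0, 1], rfl⟩
  · fin_cases j
    · exact Or.inl rfl
    · exact Or.inr hper1
  show twistedD4 K (p ^ a) ≤ U
  rw [twistedD4, ChevalleyDatum.genSubgroup, Subgroup.closure_le]
  rintro g ⟨w, hw, eg⟩
  rcases hw with ⟨t, ht, r, hr, rfl⟩ | ⟨t, rs, hrs, rfl⟩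
  · obtain ⟨h1, h2⟩ := hU 0 (fun _ => t) (fun i _ => by rw [hφ, ht])
    simp only [List.mem_cons, List.not_mem_nil, or_false] at hr
    rcases hr with rfl | rfl
    · refine Eq.subst (motive := fun x => x ∈ U) (Units.ext ?_) h1
      rw [eg]; simp [Z, d4Orbits, d4Orb, orbElt, ChevalleyDatum.wordMat, coe_xGL]; rfl
    · refine Eq.subst (motive := fun x => x ∈ U) (Units.ext ?_) h2
      rw [eg]; simp [Z, d4Orbits, d4Orb, orbEltNeg, ChevalleyDatum.wordMat, coe_xGL]; rfl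
  · have hc := Z.tau_compat (j := 1) hper1 t
    obtain ⟨h1, h2⟩ := hU 1 _ hc
    have e2 : t ^ (p ^ a) ^ 2 = φ (φ t) := by rw [hφ, hφ, sq, pow_mul]
    simp only [List.mem_cons, List.not_mem_nil, or_false] at hrs
    rcases hrs with rfl | rfl
    · refine Eq.subst (motive := fun x => x ∈ U) (Units.ext ?_) h1
      rw [eg, e2, ← hφ]
      simp [Z, d4Orbits, d4Orb, orbElt, Setting.tau, ChevalleyDatum.wordMat, coe_xGL, mul_assoc]
      rfl
    · refine Eq.subst (motive := fun x => x ∈ U) (Units.ext ?_) h2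
      rw [eg, e2, ← hφ]
      simp [Z, d4Orbits, d4Orb, orbEltNeg, Setting.tau, ChevalleyDatum.wordMat, coe_xGL, mul_assoc]
      rfl

/-- The untwisted part of `²E₆(q)` is maximal. -/
theorem e6_maximal (a : ℕ) (ha : 1 ≤ a) (hK : Fintype.card K = (p ^ a) ^ 2) (M : Subgroup (GL chevE6.Idx K))
    (hM : ∀ g : GL chevE6.Idx K, g ∈ M ↔ g ∈ twistedE6 K (p ^ a) ∧
      ∀ i j : chevE6.Idx, ((g : Matrix chevE6.Idx chevE6.Idx K) i j) ^ (p ^ a) =
        (g : Matrix chevE6.Idx chevE6.Idx K) i j) :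
    M ≠ twistedE6 K (p ^ a) ∧ ∀ H : Subgroup (GL chevE6.Idx K), M ≤ H → H ≤ twistedE6 K (p ^ a) →
      H = M ∨ H = twistedE6 K (p ^ a) := by
  have hq : IsPrimePow (p ^ a) := (Fact.out : p.Prime).isPrimePow.pow (by omega)
  obtain ⟨φ, hφ, h2⟩ := e6_powAut hq hK
  obtain ⟨S, hσ, hS⟩ := exists_field p a 2 ha Nat.prime_two hK φ hφ
  obtain ⟨cO, cV, cN, cW, cS, cL⟩ := e6_checks
  let Z : Setting chevE6 E6.cert K 4 :=
    ⟨rootedE6, e6Graph, e6Graph_facts, chkGraph_E6, φ, e6Orbits hq hK φ hφ h2, S, hσ, e6Table, topRoot_E6, cO, cV, cN⟩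
  have hZM : M = Z.M := by
    ext g
    rw [hM g]
    show _ ↔ g ∈ twistedE6 K (p ^ a) ∧ g ∈ ratGroup chevE6 S
    rw [ratGroup_iff_entries]
    simp only [hS]
    exact ⟨fun h => ⟨h.1, ((e6Twist φ).mem_fixedGroup.1 (e6_le_fixed φ hφ h2 h.1)).1, h.2⟩, fun h => ⟨h.1, h.2.2⟩⟩
  have hlong : ∀ j : Fin 4, 2 ≤ j.1 → (Z.O.orb j).length = 2 := by
    intro j hj
    fin_cases j
    · simp at hj
    · simp at hj
    · rfl
    · rfl
  have hper : ∀ j : Fin 4, 2 ≤ j.1 → ∀ x, Z.φ^[(Z.O.orb j).length] x = x := fun j hj x => by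
    rw [hlong j hj]; exact h2 x
  rw [hZM]
  refine ⟨Z.ne_G ⟨2, by rw [hlong 2 (by decide)]; norm_num, hper 2 (by decide)⟩, fun H hMH hHG => ?_⟩
  refine Z.maximal p etaSigns_E6 hMH hHG cW cS long_E6 cL ⟨0, rfl⟩ (fun j => ?_) (fun j => ?_) (fun U hU => ?_)
  · fin_cases j
    · exact Or.inl rfl
    · exact Or.inl rfl
    · exact Or.inr ⟨([0, 5, 3, 2, 4, 1, 3, 2, 4, 0, 5], [2, 4]), List.mem_cons_self, rfl, [3, 1, 2, 0, 1, 2, 3], rfl⟩
    · exact Or.inr ⟨([2, 4, 3, 2, 4, 1, 3, 2, 4, 0, 5], [0, 5]), List.mem_cons_of_mem _ List.mem_cons_self, rfl,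
        [2, 1, 2, 0, 1, 2, 3], rfl⟩
  · fin_cases j
    · exact Or.inl rfl
    · exact Or.inl rfl
    · exact Or.inr (hper 2 (by decide))
    · exact Or.inr (hper 3 (by decide))
  show twistedE6 K (p ^ a) ≤ U
  rw [twistedE6, ChevalleyDatum.genSubgroup, Subgroup.closure_le]
  rintro g ⟨w, hw, eg⟩
  rcases hw with ⟨t, ht, r, hr, rfl⟩ | ⟨t, rs, hrs, rfl⟩
  · obtain ⟨a0, b0⟩ := hU 0 (fun _ => t) (fun i _ => by rw [hφ, ht])
    obtain ⟨a1, b1⟩ := hU 1 (fun _ => t) (fun i _ => by rw [hφ, ht])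
    simp only [List.mem_cons, List.not_mem_nil, or_false] at hr
    rcases hr with rfl | rfl | rfl | rfl
    · refine Eq.subst (motive := fun x => x ∈ U) (Units.ext ?_) a0
      rw [eg]; simp [Z, e6Orbits, e6Orb, orbElt, ChevalleyDatum.wordMat, coe_xGL]; rfl
    · refine Eq.subst (motive := fun x => x ∈ U) (Units.ext ?_) b0
      rw [eg]; simp [Z, e6Orbits, e6Orb, orbEltNeg, ChevalleyDatum.wordMat, coe_xGL]; rfl
    · refine Eq.subst (motive := fun x => x ∈ U) (Units.ext ?_) a1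
      rw [eg]; simp [Z, e6Orbits, e6Orb, orbElt, ChevalleyDatum.wordMat, coe_xGL]; rfl
    · refine Eq.subst (motive := fun x => x ∈ U) (Units.ext ?_) b1
      rw [eg]; simp [Z, e6Orbits, e6Orb, orbEltNeg, ChevalleyDatum.wordMat, coe_xGL]; rfl
  · obtain ⟨a2, b2⟩ := hU 2 _ (Z.tau_compat (hper 2 (by decide)) t)
    obtain ⟨a3, b3⟩ := hU 3 _ (Z.tau_compat (hper 3 (by decide)) t)
    simp only [List.mem_cons, List.not_mem_nil, or_false] at hrs
    rcases hrs with rfl | rfl | rfl | rfl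
    · refine Eq.subst (motive := fun x => x ∈ U) (Units.ext ?_) a3
      rw [eg, ← hφ]; simp [Z, e6Orbits, e6Orb, orbElt, Setting.tau, ChevalleyDatum.wordMat, coe_xGL]; rfl
    · refine Eq.subst (motive := fun x => x ∈ U) (Units.ext ?_) b3
      rw [eg, ← hφ]; simp [Z, e6Orbits, e6Orb, orbEltNeg, Setting.tau, ChevalleyDatum.wordMat, coe_xGL]; rfl
    · refine Eq.subst (motive := fun x => x ∈ U) (Units.ext ?_) a2
      rw [eg, ← hφ]; simp [Z, e6Orbits, e6Orb, orbElt, Setting.tau, ChevalleyDatum.wordMat, coe_xGL]; rfl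
    · refine Eq.subst (motive := fun x => x ∈ U) (Units.ext ?_) b2
      rw [eg, ← hφ]; simp [Z, e6Orbits, e6Orb, orbEltNeg, Setting.tau, ChevalleyDatum.wordMat, coe_xGL]; rfl

end Cfsg.Agent.Lib.ChevTwistMax
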