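import Cfsg.Agent.Lib.ChevTwistMax.Setting

/-!
The unipotent part of an overgroup of the untwisted part.
-/

set_option autoImplicit false

namespace Cfsg.Agent.Lib.ChevTwistMax

open Cfsg.Lie Cfsg.Agent.Lib.Chev Cfsg.Agent.Lib.ChevSubfield Cfsg.Agent.Lib.ChevField Cfsg.Agent.Lib.Twisted
open Cfsg.Agent.Lib.Twisted.Core

theorem zip_sum {K : Type*} [Field K] (f e : ℕ → ℤ) : ∀ o : List ℕ,
    (((o.map f).zip o).map fun q => (q.1 : K) * (e q.2 : K)).sum = (((o.map fun s => f s * e s).sum : ℤ) : K)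
  | [] => by simp
  | s :: o => by
    simp only [List.map_cons, List.zip_cons_cons, List.sum_cons, Int.cast_add, Int.cast_mul]
    rw [zip_sum f e o]

namespace Setting

variable {D : ChevalleyDatum} {C : Cert} {K : Type*} [Field K] [Fintype K] {n : ℕ} (Z : Setting D C K n)

/-- The roots of one height in the order of the orbits. -/
def layerList (k : ℤ) : List ℕ :=
  (Z.Tb.orbs.filter fun o => decide (htB D C (o.headD 0) = k)).flatten

theorem layerList_spec (k : ℤ) :
    (Z.layerList k).Nodup ∧ ∀ r, r ∈ Z.layerList k ↔ r ∈ posSet D ∧ ht D C r = k := by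
  refine ⟨Z.orbs_nodup.sublist (List.Sublist.flatten List.filter_sublist), fun r => ?_⟩
  simp only [layerList, List.mem_flatten, List.mem_filter, decide_eq_true_eq, htB_eq]
  constructor
  · rintro ⟨o, ⟨ho, hok⟩, hro⟩
    obtain ⟨h1, h2⟩ := (Z.orbs_facts ho).2.1 r hro
    exact ⟨h1, h2.trans hok⟩
  · rintro ⟨hr, hrk⟩
    obtain ⟨o, ho, hro⟩ := List.mem_flatten.1 (Z.root_facts hr).2.2.2
    exact ⟨o, ⟨ho, by rw [← ((Z.orbs_facts ho).2.1 r hro).2, hrk]⟩, hro⟩

theorem layerList_mem_G {k : ℤ} {v : ℕ → K}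
    (hv : ∀ r, r ∈ posSet D → ht D C r = k → v (Z.P.root r) = (Z.P.sign r : K) * Z.φ (v r)) :
    oElt Z.hh (Z.layerList k) v ∈ Z.O.G := by
  have key : ∀ L : List (List ℕ), (∀ o ∈ L, o ∈ Z.Tb.orbs ∧ ht D C (o.headD 0) = k) →
      oElt Z.hh L.flatten v ∈ Z.O.G := by
    intro L hL
    induction L with
    | nil => rw [List.flatten_nil, oElt_nil]; exact one_mem _
    | cons o L ih =>
      rw [List.flatten_cons, oElt_append]
      obtain ⟨ho, hok⟩ := hL o List.mem_cons_self
      refine mul_mem (Z.orb_elt_mem ho fun r hr => ?_) (ih fun a ha => hL a (List.mem_cons_of_mem _ ha))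
      obtain ⟨h1, h2⟩ := (Z.orbs_facts ho).2.1 r hr
      exact hv r h1 (h2.trans hok)
  refine key _ fun o ho => ?_
  obtain ⟨h1, h2⟩ := List.mem_filter.1 ho
  exact ⟨h1, by rw [← htB_eq]; exact of_decide_eq_true h2⟩

theorem layerList_htSet (k : ℤ) : ∀ r ∈ Z.layerList k, r ∈ htSet D C k := fun r hr =>
  ⟨(((Z.layerList_spec k).2 r).1 hr).1, (((Z.layerList_spec k).2 r).1 hr).2.ge⟩

/-- Peel one layer off a fixed element. -/
theorem layer_split {k : ℤ} (hk : 1 ≤ k) {u : GL D.Idx K} (hu : u ∈ rootGen D K (htSet D C k))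
    (v : GL D.Idx K) (hv : v ∈ rootGen D K (htSet D C k))
    (hc : ∀ r, r ∈ posSet D → ht D C r = k → cT Z.hh r v = cT Z.hh r u) :
    v⁻¹ * u ∈ rootGen D K (htSet D C (k + 1)) := by
  refine mem_next Z.hh hk (mul_mem (inv_mem hv) hu) fun r hr hrk => ?_
  have := hc r hr hrk
  rw [cT_eq Z.hh hr.2, cT_eq Z.hh hr.2] at this
  rw [crd_mul Z.hh (k := k) (by omega) hr.2 (by omega) (inv_mem hv) hu,
    crd_inv Z.hh (k := k) (by omega) hr.2 (by omega) hv, this, neg_add_cancel]

include Z in
theorem layer_empty {k : ℤ} (hk : ht D C (top D) < k) {u : GL D.Idx K} (hu : u ∈ rootGen D K (htSet D C k)) :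
    u = 1 := by
  obtain ⟨-, hmax, -⟩ := topRoot_facts Z.hh Z.hT
  have : rootGen D K (htSet D C k) = ⊥ := by
    rw [eq_bot_iff, rootGen, Subgroup.closure_le]
    rintro x ⟨r, t, hr, -⟩
    have := hmax r hr.1.2
    have := hr.2
    omega
  rwa [this, Subgroup.mem_bot] at hu

theorem star_mem : Z.Tb.star ∈ Z.Tb.orbs := by
  have h := Z.hV
  simp only [chkVis, Bool.and_eq_true, List.contains_iff_mem] at h
  exact h.1.1

/-- A root outside the highest larger orbit is fixed, or seen and not higher. -/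
theorem vis_facts {r : ℕ} (hr : r ∈ posSet D) (hfix : Z.P.root r ≠ r) (hstar : r ∉ Z.Tb.star) :
    ht D C r ≤ ht D C (Z.Tb.star.headD 0) ∧ ∃ r₀ o c, o ∈ Z.Tb.orbs ∧ r₀ ∈ posSet D ∧ c ∈ posSet D ∧
      (r = r₀ ∨ r = Z.P.root r₀ ∨ r = Z.P.root (Z.P.root r₀)) ∧
      ht D C c = ht D C r₀ + ht D C (o.headD 0) ∧
      (bCoef D C Z.Tb o c r₀ = 1 ∨ bCoef D C Z.Tb o c r₀ = -1) ∧
      ∀ x, x ∈ posSet D → ht D C x = ht D C r₀ → x = r₀ ∨ bCoef D C Z.Tb o c x = 0 ∨
        (x = Z.P.root (Z.P.root r₀) ∧ Z.P.root x = r₀ ∧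
          Z.P.sign x * (Z.P.sign r₀ * Z.P.sign (Z.P.root r₀)) = 1 ∧
          bCoef D C Z.Tb o c x * (Z.P.sign r₀ * Z.P.sign (Z.P.root r₀)) = bCoef D C Z.Tb o c r₀) := by
  have h := Z.hV
  simp only [chkVis, Bool.and_eq_true, allN_iff, List.all_eq_true, List.any_eq_true, Bool.or_eq_true,
    decide_eq_true_eq, natBeq_iff, List.contains_iff_mem, Nat.ble_eq, Nat.blt_eq, Bool.not_eq_true',
    decide_eq_false_iff_not, htB_eq] at h
  obtain ⟨⟨-, h1⟩, h2⟩ := h
  have := Z.hh.toChecked.two_mul_half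
  have hh1 := h1 (r - D.nroots / 2) (by obtain ⟨a, b⟩ := hr; omega)
  rw [show D.nroots / 2 + (r - D.nroots / 2) = r by obtain ⟨a, b⟩ := hr; omega] at hh1
  obtain ⟨hle, ⟨r₀, o, c⟩, hv, hcases⟩ := hh1.resolve_left (by rintro (e | e) <;> contradiction)
  obtain ⟨⟨⟨⟨⟨⟨⟨ho, hr1⟩, hr2⟩, hc1⟩, hc2⟩, hct⟩, hB⟩, hall⟩ := h2 _ hv
  refine ⟨hle, r₀, o, c, ho, ⟨hr1, hr2⟩, ⟨hc1, hc2⟩, by tauto, hct, hB, fun x hx hxk => ?_⟩
  obtain ⟨hx1, hx2⟩ := hx
  have h3 := hall (x - D.nroots / 2) (by omega)
  rw [show D.nroots / 2 + (x - D.nroots / 2) = x by omega] at h3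
  rcases h3 with ((e | e) | e) | e
  · exact Or.inl e
  · exact absurd hxk e
  · exact Or.inr (Or.inl e)
  · exact Or.inr (Or.inr ⟨e.1.1.1, e.1.1.2, e.1.2, e.2⟩)

theorem fixed_above {r : ℕ} (hr : r ∈ posSet D) (hlt : ht D C (Z.Tb.star.headD 0) < ht D C r) :
    Z.P.root r = r := by
  by_contra hne
  by_cases hs : r ∈ Z.Tb.star
  · have := ((Z.orbs_facts Z.star_mem).2.1 r hs).2; omega
  · have := (Z.vis_facts hr hne hs).1; omega

/-- High layers of the group are rational. -/
theorem high_rat : ∀ m : ℕ, ∀ k : ℤ, ht D C (Z.Tb.star.headD 0) < k → 1 ≤ k → ht D C (top D) + 1 - k ≤ m →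
    ∀ u ∈ rootGen D K (htSet D C k), u ∈ Z.O.G → u ∈ Z.M := by
  intro m
  induction m with
  | zero => intro k _ _ hm u hu _; rw [Z.layer_empty (by omega) hu]; exact one_mem _
  | succ m ih =>
    intro k hks hk hm u hu huG
    set f := fun r => cT Z.hh r u
    set v := oElt Z.hh (Z.layerList k) f
    have hvk : v ∈ rootGen D K (htSet D C k) :=
      oElt_mem_rootGen Z.hh (fun r hr => ⟨Z.layerList_htSet k r hr, (Z.layerList_htSet k r hr).1.2⟩) f
    have hvG : v ∈ Z.O.G := Z.layerList_mem_G fun r hr hrk => Z.crd_fixed hk hr hrk hu huG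
    have hvM : v ∈ Z.M := ⟨hvG, Z.oElt_rat (fun r hr => (Z.layerList_htSet k r hr).1.2) fun r hr => by
      obtain ⟨hrp, hrk⟩ := ((Z.layerList_spec k).2 r).1 hr
      exact Z.crd_rat hk hrp hrk (Z.fixed_above hrp (by omega)) hu huG⟩
    have hnext := Z.layer_split hk hu v hvk fun r hr hrk => by
      rw [cT_eq Z.hh hr.2, crd_oElt Z.hh hk hr hrk (Z.layerList_htSet k) (Z.layerList_spec k).1,
        if_pos (((Z.layerList_spec k).2 r).2 ⟨hr, hrk⟩)]
    have := mul_mem hvM (ih (k + 1) (by omega) (by omega) (by push_cast at hm ⊢; omega) _ hnext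
      (mul_mem (inv_mem hvG) huG))
    rwa [mul_inv_cancel_left] at this

/-- The unipotent elements of `H` are rational unless the highest larger orbit gives more. -/
theorem unip_rat {H : Subgroup (GL D.Idx K)} (hMH : Z.M ≤ H) (hHG : H ≤ Z.O.G)
    (hstar : ∀ v : ℕ → K, oElt Z.hh Z.Tb.star v ∈ H → oElt Z.hh Z.Tb.star v ∈ ratGroup D Z.S) :
    ∀ u ∈ D.posUnipotent K, u ∈ H → u ∈ Z.M := by
  classical
  have h := Z.hh.toChecked
  obtain ⟨hsne, hsp, hsperm, -⟩ := Z.orbs_facts Z.star_mem
  set N := ht D C (Z.Tb.star.headD 0)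
  have key : ∀ m : ℕ, ∀ k : ℤ, 1 ≤ k → ht D C (top D) + 1 - k ≤ m →
      ∀ u ∈ rootGen D K (htSet D C k), u ∈ H → u ∈ Z.M := by
    intro m
    induction m with
    | zero => intro k _ hm u hu _; rw [Z.layer_empty (by omega) hu]; exact one_mem _
    | succ m ih =>
      intro k hk hm u hu huH
      have huG := hHG huH
      have huU : u ∈ D.posUnipotent K := by
        rw [h.posUnipotent_eq]; exact rootGen_mono (htSet_subset k) hu
      set f := fun r => cT Z.hh r u
      have hcompat : ∀ r, r ∈ posSet D → ht D C r = k → f (Z.P.root r) = (Z.P.sign r : K) * Z.φ (f r) :=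
        fun r hr hrk => Z.crd_fixed hk hr hrk hu huG
      have hstep : ∀ r, r ∈ posSet D → ht D C r = k → f r ∈ Z.S.k → f (Z.P.root r) ∈ Z.S.k :=
        fun r hr hrk hrat => by
          rw [hcompat r hr hrk, Z.k_iff.1 hrat]
          exact mul_mem (intCast_mem _ _) hrat
      -- the coordinates outside the highest larger orbit
      have hrat : ∀ r, r ∈ posSet D → ht D C r = k → r ∉ Z.Tb.star → f r ∈ Z.S.k := by
        intro r hr hrk hrs
        by_cases hfix : Z.P.root r = r
        · exact Z.crd_rat hk hr hrk hfix hu huG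
        obtain ⟨-, r₀, o, c, ho, hr0, hcp, hor, hct, hB, hall⟩ := Z.vis_facts hr hfix hrs
        have hr0k : ht D C r₀ = k := by
          rcases hor with rfl | rfl | rfl
          · exact hrk
          · rwa [Z.ht_root hr0.2] at hrk
          · rwa [Z.ht_root (Z.root_pos hr0).2, Z.ht_root hr0.2] at hrk
        suffices h0 : f r₀ ∈ Z.S.k by
          rcases hor with rfl | rfl | rfl
          · exact h0
          · exact hstep _ hr0 hr0k h0
          · exact hstep _ (Z.root_pos hr0) (by rw [Z.ht_root hr0.2]; exact hr0k) (hstep _ hr0 hr0k h0)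
        set l := ht D C (o.headD 0)
        obtain ⟨hone, hop, -, -⟩ := Z.orbs_facts ho
        have hl : 1 ≤ l := by
          obtain ⟨x, hx⟩ := List.exists_mem_of_ne_nil _ hone
          obtain ⟨hxp, hxl⟩ := hop x hx
          have := h.ht_pos hxp.2 hxp.1
          omega
        set X := oElt Z.hh o fun r => (Z.Tb.e D r : K)
        have hXM : X ∈ Z.M := Z.unit_elt_mem ho
        have hXl : X ∈ rootGen D K (htSet D C l) :=
          oElt_mem_rootGen Z.hh (S := htSet D C l) (fun a ha => ⟨⟨(hop a ha).1, (hop a ha).2.ge⟩, (hop a ha).1.2⟩) _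
        have hXU : X ∈ D.posUnipotent K := by
          rw [h.posUnipotent_eq]; exact rootGen_mono (htSet_subset l) hXl
        set w := u * X * u⁻¹ * X⁻¹
        have hw : w ∈ rootGen D K (htSet D C (k + l)) := by
          have h1 := (dEnt_comm h hk hl hu hXl).1
          obtain ⟨m', hm'⟩ : ∃ m' : ℕ, k + l = m' := ⟨(k + l).toNat, by omega⟩
          rw [hm'] at h1 ⊢
          exact mem_htGen_of_raises Z.hh (mul_mem (mul_mem (mul_mem huU hXU) (inv_mem huU)) (inv_mem hXU)) m'
            (by omega) h1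
        have hwM := ih (k + l) (by omega) (by push_cast at hm ⊢; omega) w hw
          (mul_mem (mul_mem (mul_mem huH (hMH hXM)) (inv_mem huH)) (inv_mem (hMH hXM)))
        have hcw := crd_mem_of_rat Z.hh hcp.2 hwM.2
        rw [crd_comm_oElt Z.hh hk hl hcp (by rw [hct, hr0k]) hu _ (fun a ha => ⟨(hop a ha).1, (hop a ha).2⟩)] at hcw
        rw [Finset.sum_congr rfl (g := fun x => (bCoef D C Z.Tb o c x : K) * f x) fun x _ => by
          rw [zip_sum (fun s => if x = s then 0 else
            (((cTerms C x s).filter fun d => Nat.beq d.1 c).map fun d => d.2.1).sum) (Z.Tb.e D) o]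
          rfl] at hcw
        have hr0m : r₀ ∈ layerSet D C k := mem_layerSet.2 ⟨hr0, hr0k⟩
        by_cases hsingle : ∀ x ∈ layerSet D C k, x ≠ r₀ → bCoef D C Z.Tb o c x = 0
        · rw [Finset.sum_eq_single r₀ (fun x hx hne => by rw [hsingle x hx hne, Int.cast_zero, zero_mul])
            (fun hn => absurd hr0m hn)] at hcw
          rcases hB with e | e <;> rw [e] at hcw <;> simp at hcw <;> exact hcw
        push Not at hsingle
        obtain ⟨x, hx, hxne, hxB⟩ := hsingle
        obtain ⟨hxp, hxk⟩ := mem_layerSet.1 hx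
        obtain ⟨hx1, hx2, hx3, hx4⟩ := ((hall x hxp (hxk.trans hr0k.symm)).resolve_left hxne).resolve_left hxB
        rw [Finset.sum_eq_add r₀ x (Ne.symm hxne) (fun y hy hy' => by
          obtain ⟨hyp, hyk⟩ := mem_layerSet.1 hy
          rcases hall y hyp (hyk.trans hr0k.symm) with e | e | e
          · exact absurd e hy'.1
          · rw [e, Int.cast_zero, zero_mul]
          · exact absurd (e.1.trans hx1.symm) hy'.2) (fun hn => absurd hr0m hn) (fun hn => absurd hx hn)] at hcw
        set a := f r₀ with ha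
        have hfx : f x = ((Z.P.sign r₀ * Z.P.sign (Z.P.root r₀) : ℤ) : K) * Z.φ (Z.φ a) := by
          rw [hx1, hcompat _ (Z.root_pos hr0) (by rw [Z.ht_root hr0.2]; exact hr0k), hcompat _ hr0 hr0k, map_mul,
            Z.phi_e, Int.cast_mul, ha]
          ring
        have hper : Z.φ (Z.φ (Z.φ a)) = a := by
          have e := hcompat x hxp hxk
          rw [hx2, hfx, map_mul, Z.phi_e, ← mul_assoc, ← Int.cast_mul, hx3, Int.cast_one, one_mul] at e
          exact e.symm
        rw [hfx, ← mul_assoc, ← Int.cast_mul, hx4, ← mul_add] at hcw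
        have hsum : a + Z.φ (Z.φ a) ∈ Z.S.k := by
          rcases hB with e | e <;> rw [e] at hcw <;> simp at hcw
          · exact hcw
          · have := neg_mem hcw
            convert this using 1
            ring
        have e := Z.k_iff.1 hsum
        rw [map_add, hper] at e
        refine Z.k_iff.2 ?_
        have e1 : Z.φ a = Z.φ (Z.φ a) := by linear_combination e
        exact (Z.φ.injective e1).symm
      set f1 : ℕ → K := fun r => if r ∈ Z.Tb.star then 0 else f r
      set o2 : List ℕ := if N = k then Z.Tb.star else []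
      set v1 := oElt Z.hh (Z.layerList k) f1
      set v2 := oElt Z.hh o2 f
      have ho2 : ∀ r, r ∈ o2 ↔ N = k ∧ r ∈ Z.Tb.star := fun r => by
        simp only [o2]; split_ifs with e <;> simp [e]
      have ho2k : ∀ r ∈ o2, r ∈ htSet D C k := fun r hr => by
        obtain ⟨e, hrs⟩ := (ho2 r).1 hr
        exact ⟨(hsp r hrs).1, by rw [(hsp r hrs).2]; exact e.ge⟩
      have ho2n : o2.Nodup := by
        simp only [o2]
        split_ifs
        · exact (List.nodup_flatten.1 Z.orbs_nodup).1 _ Z.star_mem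
        · exact List.nodup_nil
      have hv1k : v1 ∈ rootGen D K (htSet D C k) :=
        oElt_mem_rootGen Z.hh (fun r hr => ⟨Z.layerList_htSet k r hr, (Z.layerList_htSet k r hr).1.2⟩) f1
      have hv2k : v2 ∈ rootGen D K (htSet D C k) :=
        oElt_mem_rootGen Z.hh (fun r hr => ⟨ho2k r hr, (ho2k r hr).1.2⟩) f
      have hclosed : ∀ r, r ∈ posSet D → (Z.P.root r ∈ Z.Tb.star ↔ r ∈ Z.Tb.star) := fun r hr => by
        constructor
        · intro hm'
          obtain ⟨y, hy, e⟩ := List.mem_map.1 (hsperm.symm.subset hm')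
          exact (Z.hP.root_inj _ _ (hsp y hy).1.2 hr.2 e) ▸ hy
        · exact fun hm' => hsperm.subset (List.mem_map.2 ⟨r, hm', rfl⟩)
      have hv1M : v1 ∈ Z.M := by
        refine ⟨Z.layerList_mem_G fun r hr hrk => ?_, Z.oElt_rat (fun r hr => (Z.layerList_htSet k r hr).1.2)
          fun r hr => ?_⟩
        · simp only [f1, hclosed r hr]
          split_ifs
          · rw [map_zero, mul_zero]
          · exact hcompat r hr hrk
        · obtain ⟨hrp, hrk⟩ := ((Z.layerList_spec k).2 r).1 hr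
          simp only [f1]
          split_ifs with hs
          · exact zero_mem _
          · exact hrat r hrp hrk hs
      have hv2G : v2 ∈ Z.O.G := by
        by_cases e : N = k
        · simp only [v2, o2, if_pos e]
          exact Z.orb_elt_mem Z.star_mem fun r hr => hcompat r (hsp r hr).1 ((hsp r hr).2.trans e)
        · simp only [v2, o2, if_neg e, oElt_nil]
          exact one_mem _
      have hnext : (v1 * v2)⁻¹ * u ∈ rootGen D K (htSet D C (k + 1)) := by
        refine Z.layer_split hk hu _ (mul_mem hv1k hv2k) fun r hr hrk => ?_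
        rw [cT_eq Z.hh hr.2, crd_mul Z.hh (k := k) (by omega) hr.2 (by omega) hv1k hv2k,
          crd_oElt Z.hh hk hr hrk (Z.layerList_htSet k) (Z.layerList_spec k).1,
          crd_oElt Z.hh hk hr hrk ho2k ho2n, if_pos (((Z.layerList_spec k).2 r).2 ⟨hr, hrk⟩)]
        by_cases hs : r ∈ Z.Tb.star
        · simp only [f1, if_pos hs, (ho2 r).2 ⟨((hsp r hs).2).symm.trans hrk, hs⟩, if_true, zero_add, f]
        · simp only [f1, if_neg hs, ho2, hs, and_false, if_false, add_zero, f]
      have hu' : (v1 * v2)⁻¹ * u ∈ Z.O.G := mul_mem (inv_mem (mul_mem hv1M.1 hv2G)) huG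
      by_cases e : N = k
      · have hu'M : (v1 * v2)⁻¹ * u ∈ Z.M :=
          Z.high_rat _ (k + 1) (by omega) (by omega) (Int.self_le_toNat _) _ hnext hu'
        have hv2H : v2 ∈ H := by
          have e2 : v2 = v1⁻¹ * u * ((v1 * v2)⁻¹ * u)⁻¹ := by group
          rw [e2]
          exact mul_mem (mul_mem (inv_mem (hMH hv1M)) huH) (inv_mem (hMH hu'M))
        have hv2M : v2 ∈ Z.M := ⟨hv2G, by
          simp only [v2, o2, if_pos e] at hv2H ⊢
          exact hstar f hv2H⟩
        have := mul_mem (mul_mem hv1M hv2M) hu'M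
        rwa [mul_inv_cancel_left] at this
      · have hv2 : v2 = 1 := by simp only [v2, o2, if_neg e, oElt_nil]
        rw [hv2, mul_one] at hnext
        have := mul_mem hv1M (ih (k + 1) (by omega) (by push_cast at hm ⊢; omega) _ hnext
          (mul_mem (inv_mem (hMH hv1M)) huH))
        rwa [mul_inv_cancel_left] at this
  intro u hu huH
  have h1 : u ∈ rootGen D K (htSet D C 1) := by rw [htSet_one h, ← h.posUnipotent_eq]; exact hu
  exact key _ 1 le_rfl (Int.self_le_toNat _) u h1 huH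

end Setting

end Cfsg.Agent.Lib.ChevTwistMax
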